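import Cfsg.Agent.Lib.Ree.ClassSquare.Main
import Cfsg.Agent.Lib.Ree.Tori.Apply
import Cfsg.Agent.Lib.ReeDeg41.Main
import Cfsg.Agent.Lib.Ree.Aut.Shape

/-!
The small Ree groups satisfy the hypotheses on the unipotent radical and on the degrees.
-/

set_option autoImplicit false

namespace Cfsg.Agent.Lib.Ree.ClassSquare

set_option maxHeartbeats 400000

open Cfsg.Lie Cfsg.Agent.Lib.Chev Cfsg.Agent.Lib.Twisted Cfsg.Agent.Lib.Ree
open Cfsg.Agent.Lib.Ree.Tori (sys)

variable {K : Type*} [Field K] [Fintype K] {m : ℕ} (hm : 1 ≤ m) (hK : Fintype.card K = 3 ^ (2 * m + 1))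
include hm hK

theorem sys_mem_U {g : ↥(RG K m)} :
    g ∈ (sys (facts hK) hm).U ↔ ∃ t u v : K, g = uG m t u v := by
  refine ⟨fun h => ?_, ?_⟩
  · obtain ⟨t, u, v, e⟩ := ((facts hK).unip _).1 (Subgroup.mem_subgroupOf.1 h)
    exact ⟨t, u, v, Subtype.ext e⟩
  · rintro ⟨t, u, v, rfl⟩
    exact Subgroup.mem_subgroupOf.2 ((facts hK).uWord_mem_U1 t u v)

theorem uG_cube_iff (t u v : K) : uG m t u v ^ 3 = 1 ↔ t = 0 := by
  rw [← Tori.uWord_cube (facts hK) t u v, Subtype.ext_iff, SubgroupClass.coe_pow, OneMemClass.coe_one]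
  rfl

theorem invG_conj (t u v : K) :
    (sys (facts hK) hm).a * uG m t u v * ((sys (facts hK) hm).a)⁻¹ = uG m (-t) u (-v) :=
  Subtype.ext ((facts hK).invol_conj_uWord t u v)

theorem cubes : Cubes (sys (facts hK) hm) where
  mul := by
    intro g hg g' hg' h3 h3'
    obtain ⟨t, u, v, rfl⟩ := (sys_mem_U hm hK).1 hg
    obtain ⟨t', u', v', rfl⟩ := (sys_mem_U hm hK).1 hg'
    obtain rfl := (uG_cube_iff hm hK t u v).1 h3
    obtain rfl := (uG_cube_iff hm hK t' u' v').1 h3'
    refine ⟨?_, ?_⟩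
    · rw [ReeDeg41.uG_add_middle hK]
      exact (uG_cube_iff hm hK 0 _ _).2 rfl
    · show uG m 0 u v * uG m 0 u' v' = uG m 0 u' v' * uG m 0 u v
      rw [ReeDeg41.uG_add_middle hK, ReeDeg41.uG_add_middle hK, add_comm u, add_comm v]
  conj_CU := by
    intro g hg h3 hne
    obtain ⟨t, u, v, rfl⟩ := (sys_mem_U hm hK).1 hg
    obtain rfl := (uG_cube_iff hm hK t u v).1 h3
    have hu : u ≠ 0 := by
      rintro rfl
      refine hne ?_
      rw [invG_conj hm hK, neg_zero, eq_inv_iff_mul_eq_one, ReeDeg41.uG_add_middle hK, add_zero, neg_add_cancel,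
        (facts hK).uG_zero]
    refine ⟨uG m (-v / u) 0 0, (sys_mem_U hm hK).2 ⟨_, _, _, rfl⟩, ?_⟩
    rw [ReeDeg41.uG_first_middle hK, mul_inv_cancel_right,
      show v + -v / u * u = 0 by rw [div_mul_cancel₀ _ hu, add_neg_cancel]]
    refine Subgroup.mem_inf.2 ⟨(sys_mem_U hm hK).2 ⟨_, _, _, rfl⟩, Subgroup.mem_centralizer_singleton_iff.2 ?_⟩
    have h := invG_conj hm hK 0 u 0
    rw [neg_zero] at h
    exact (mul_inv_eq_iff_eq_mul.1 h).symm
  nine := by
    classical
    intro g hg h3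
    obtain ⟨t, u, v, rfl⟩ := (sys_mem_U hm hK).1 hg
    have ht : t ≠ 0 := fun e => h3 ((uG_cube_iff hm hK t u v).2 e)
    set S := sys (facts hK) hm
    have hne : uG m t u v ≠ 1 := fun e => h3 (by rw [e, one_pow])
    set R : Finset K := {0, t, -t}
    have hR : R.card ≤ 3 := Finset.card_le_three
    have key : ∀ x : ↥(Subgroup.centralizer ({uG m t u v} : Set ↥(RG K m))),
        ∃ p : ↥R × K, ∃ u' : K, (x : ↥(RG K m)) = uG m (p.1 : K) u' p.2 ∧
          u' * t = (p.1 : K) * u - (p.1 : K) ^ 2 * (t ^ 3 ^ m) ^ 3 + t ^ 2 * (((p.1 : K)) ^ 3 ^ m) ^ 3 +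
            t * (p.1 : K) * (t ^ 3 ^ m) ^ 3 - t * (p.1 : K) * ((p.1 : K) ^ 3 ^ m) ^ 3 := by
      intro x
      have hxB := S.centralizer_U_le hg hne x.2
      have hcomm := Subgroup.mem_centralizer_singleton_iff.1 x.2
      obtain ⟨y, hy, h, hh, e⟩ := S.split _ hxB
      obtain ⟨t', u', v', rfl⟩ := (sys_mem_U hm hK).1 hy
      obtain ⟨μ, hμ⟩ := (facts hK).torus_shape (Subgroup.mem_subgroupOf.1 hh)
      have hh' : h = (facts hK).torG μ := Subtype.ext hμ
      subst hh'
      rw [e, mul_assoc, ← inv_mul_cancel_right ((facts hK).torG μ * uG m t u v) ((facts hK).torG μ),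
        (facts hK).torG_conj_uG] at hcomm
      rw [← mul_assoc, ← mul_assoc, ReeDeg41.uG_mul hK, ReeDeg41.uG_mul hK] at hcomm
      obtain ⟨⟨et, eu, ev⟩, -⟩ := (facts hK).uG_torG_inj hcomm
      have hμ1 : (μ : K) = 1 := mul_right_cancel₀ ht (by linear_combination et)
      simp only [hμ1, one_pow, one_mul] at eu ev
      have hμ' : μ = 1 := Units.ext hμ1
      have eφ : t' * (t ^ 3 ^ m) ^ 3 = t * (t' ^ 3 ^ m) ^ 3 := by linear_combination -eu
      have hs : t' ∈ R := by
        have ht' : t' = t' / t * t := (div_mul_cancel₀ _ ht).symm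
        set s := t' / t
        rw [ht', mul_pow, mul_pow] at eφ
        have hφ : (s ^ 3 ^ m) ^ 3 = s := by
          refine mul_right_cancel₀ (mul_ne_zero ht (pow_ne_zero 3 (pow_ne_zero (3 ^ m) ht))) ?_
          linear_combination -eφ
        have h2 : s ^ 3 = s := by
          have h := (facts hK).theta_sq s
          calc s ^ 3 = (s ^ (3 * 3 ^ m * 3 ^ m)) ^ 3 := by rw [h]
            _ = (((s ^ 3 ^ m) ^ 3) ^ 3 ^ m) ^ 3 := by rw [← pow_mul, ← pow_mul, ← pow_mul, ← pow_mul]; ring_nf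
            _ = s := by rw [hφ, hφ]
        have h3 : s = 0 ∨ s = 1 ∨ s = -1 := by
          by_cases hs0 : s = 0
          · exact Or.inl hs0
          · exact Or.inr (sq_eq_one_iff.1 (mul_right_cancel₀ hs0 (by linear_combination h2)))
        rw [ht']
        rcases h3 with r | r | r <;> simp [R, r]
      refine ⟨(⟨t', hs⟩, v'), u', ?_, ?_⟩
      · rw [e, hμ', (facts hK).torG_one, mul_one]
      · show u' * t = t' * u - t' ^ 2 * (t ^ 3 ^ m) ^ 3 + t ^ 2 * (t' ^ 3 ^ m) ^ 3 +
          t * t' * (t ^ 3 ^ m) ^ 3 - t * t' * (t' ^ 3 ^ m) ^ 3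
        linear_combination -ev
    choose f u' hf hu' using key
    have hinj : Function.Injective f := fun x y exy => by
      have h1 := hu' x
      rw [exy, ← hu' y] at h1
      exact Subtype.ext (by rw [hf x, hf y, exy, mul_right_cancel₀ ht h1])
    refine (Nat.card_le_card_of_injective f hinj).trans ?_
    rw [Nat.card_prod, Nat.card_eq_finsetCard, Nat.card_eq_fintype_card]
    exact Nat.mul_le_mul_right _ hR

theorem degBound [Fintype ↥(RG K m)] : DegBound (sys (facts hK) hm) := by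
  intro k ρ hirr hk
  have hne : ∃ g, ρ g ≠ 1 := by
    by_contra hcon
    push Not at hcon
    let e₀ : Fin k → ℂ := Pi.single ⟨0, by omega⟩ 1
    have hne : e₀ ≠ 0 := by simp [e₀]
    let W : Subrepresentation ρ :=
      { toSubmodule := Submodule.span ℂ {e₀}
        apply_mem_toSubmodule := fun g v hv => by rw [hcon g]; exact hv }
    rcases hirr.eq_bot_or_eq_top W with hW | hW
    · exact hne (Submodule.span_singleton_eq_bot.1 (congrArg Subrepresentation.toSubmodule hW))
    · have h1 := finrank_span_singleton (K := ℂ) hne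
      rw [show Submodule.span ℂ {e₀} = ⊤ from congrArg Subrepresentation.toSubmodule hW, finrank_top,
        Module.finrank_fintype_fun_eq_card, Fintype.card_fin] at h1
      omega
  have h := ReeDeg41.degree_bound (K := K) hm hK ρ hne
  rw [Module.finrank_fin_fun] at h
  rwa [hK]

end Cfsg.Agent.Lib.Ree.ClassSquare
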