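import Cfsg.Agent.Lib.CharCount.Basic
import Cfsg.Agent.Lib.Chars.Ops
import Cfsg.Agent.Lib.Chars.Integral
import Mathlib

/-!
Products of two conjugates of a fixed element, counted by characters.
-/

set_option autoImplicit false

namespace Cfsg.Agent.Lib.Ree.ClassSquare

open scoped ComplexConjugate
open Cfsg Cfsg.Agent.Lib

variable {G : Type*} [Group G] [Fintype G]

/-- The normalised structure constant of the square of the class of `x` at `z`. -/
noncomputable def cnt (x z : G) : ℂ :=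
  ∑ χ : IrrCharacter G, (χ : G → ℂ) x ^ 2 * conj ((χ : G → ℂ) z) / (χ : G → ℂ) 1

/-- The number of pairs of conjugators of `x` giving the product `g`. -/
noncomputable def pairs (x g : G) : ℕ :=
  Nat.card {p : G × G // p.1 * x * p.1⁻¹ * (p.2 * x * p.2⁻¹) = g}

theorem isClassFunction_pairs (x : G) : IsClassFunction G (fun g => (pairs x g : ℂ)) := by
  intro g k
  simp only [pairs, Nat.cast_inj]
  refine (Nat.card_congr (((Equiv.mulLeft k).prodCongr (Equiv.mulLeft k)).subtypeEquiv fun p => ?_)).symm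
  show _ ↔ k * p.1 * x * (k * p.1)⁻¹ * (k * p.2 * x * (k * p.2)⁻¹) = k * g * k⁻¹
  rw [show k * p.1 * x * (k * p.1)⁻¹ * (k * p.2 * x * (k * p.2)⁻¹) =
    k * (p.1 * x * p.1⁻¹ * (p.2 * x * p.2⁻¹)) * k⁻¹ by group, mul_left_inj, mul_right_inj]

theorem pairs_eq (x g : G) : (pairs x g : ℂ) = (Nat.card G : ℂ) * conj (cnt x g) := by
  classical
  rw [Chars.isClassFunction_apply_eq_sum_classInner (isClassFunction_pairs x) g, cnt, map_sum, Finset.mul_sum]
  refine Finset.sum_congr rfl fun χ _ => ?_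
  rw [map_div₀, map_mul, map_pow, Complex.conj_conj]
  have h1 : ∑ h : G, (pairs x h : ℂ) * conj ((χ : G → ℂ) h) =
      ∑ p : G × G, conj ((χ : G → ℂ) (p.1 * x * p.1⁻¹ * (p.2 * x * p.2⁻¹))) := by
    rw [← Finset.sum_fiberwise (Finset.univ : Finset (G × G)) (fun p => p.1 * x * p.1⁻¹ * (p.2 * x * p.2⁻¹))]
    refine Finset.sum_congr rfl fun h _ => ?_
    rw [Finset.sum_congr rfl (g := fun _ => conj ((χ : G → ℂ) h)) fun p hp => by
      rw [(Finset.mem_filter.mp hp).2], Finset.sum_const, nsmul_eq_mul, pairs,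
      Nat.card_eq_fintype_card, Fintype.card_subtype]
  have h2 : ∑ p : G × G, (χ : G → ℂ) (p.1 * x * p.1⁻¹ * (p.2 * x * p.2⁻¹)) =
      (Nat.card G : ℂ) * ((Nat.card G : ℂ) * (χ : G → ℂ) x ^ 2 / (χ : G → ℂ) 1) := by
    rw [Fintype.sum_prod_type, Finset.sum_congr rfl fun u _ => by
      rw [CharCount.sum_conj_mul χ (u * x * u⁻¹) x, Chars.irr_isClassFunction χ x u],
      Finset.sum_const, Finset.card_univ, nsmul_eq_mul, Nat.card_eq_fintype_card]
    ring
  rw [classInner, h1, ← map_sum, h2, map_mul, map_div₀, map_mul, map_pow, Complex.conj_natCast,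
    inv_mul_cancel_left₀ Chars.natCard_ne_zero]
  ring

theorem cnt_eq (x g : G) : cnt x g = ((pairs x g : ℝ) / Nat.card G : ℝ) := by
  have h := congrArg conj (pairs_eq x g)
  rw [map_mul, Complex.conj_natCast, Complex.conj_natCast, Complex.conj_conj] at h
  push_cast
  rw [h, mul_div_cancel_left₀ _ Chars.natCard_ne_zero]

/-- The real form of `cnt`. -/
noncomputable def wt (x g : G) : ℝ := (pairs x g : ℝ) / Nat.card G

theorem cnt_eq_wt (x g : G) : cnt x g = (wt x g : ℂ) := cnt_eq x g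

theorem wt_nonneg (x g : G) : 0 ≤ wt x g := by unfold wt; positivity

theorem exists_of_cnt_ne_zero {x g : G} (h : cnt x g ≠ 0) :
    ∃ u v : G, g = u * x * u⁻¹ * (v * x * v⁻¹) := by
  by_contra hno
  push Not at hno
  apply h
  have : IsEmpty {p : G × G // p.1 * x * p.1⁻¹ * (p.2 * x * p.2⁻¹) = g} :=
    ⟨fun p => hno p.1.1 p.1.2 p.2.symm⟩
  rw [cnt_eq, pairs, Nat.card_of_isEmpty]
  simp

theorem cnt_conj (x g k : G) : cnt x (k * g * k⁻¹) = cnt x g := by
  refine Finset.sum_congr rfl fun χ _ => ?_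
  rw [Chars.irr_isClassFunction χ g k]

theorem cnt_isConj {x g h : G} (hc : IsConj g h) : cnt x h = cnt x g := by
  obtain ⟨k, rfl⟩ := isConj_iff.1 hc
  exact cnt_conj x g k

/-- The degree of an irreducible character. -/
noncomputable def deg (χ : IrrCharacter G) : ℕ := charDegree (χ : G → ℂ)

theorem deg_spec (χ : IrrCharacter G) : (χ : G → ℂ) 1 = (deg χ : ℂ) ∧ 0 < deg χ ∧ deg χ ∣ Nat.card G := by
  obtain ⟨n, hn, h, hd⟩ := Chars.irr_degree_dvd_card χ
  have : deg χ = n := by simp [deg, charDegree, h]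
  exact ⟨this ▸ h, this ▸ hn, this ▸ hd⟩

theorem norm_irr_le (χ : IrrCharacter G) (g : G) : ‖(χ : G → ℂ) g‖ ≤ deg χ := by
  obtain ⟨n, ρ, -, hχ⟩ := χ.2
  have h1 := Chars.norm_char_le ρ g
  have h2 := (deg_spec χ).1
  rw [← hχ] at h2 ⊢
  rw [show ρ.character 1 = (Module.finrank ℂ (Fin n → ℂ) : ℂ) from ρ.char_one, Nat.cast_inj] at h2
  rw [← h2]
  exact h1

section Real

variable {x : G}

theorem conj_apply_real (hx : IsConj x x⁻¹) (χ : IrrCharacter G) : conj ((χ : G → ℂ) x) = (χ : G → ℂ) x := by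
  rw [← Chars.irr_inv χ x]
  obtain ⟨k, hk⟩ := isConj_iff.1 hx
  rw [← hk, Chars.irr_isClassFunction χ x k]

/-- The (real) value at `x`. -/
noncomputable def val (x : G) (χ : IrrCharacter G) : ℝ := ((χ : G → ℂ) x).re

theorem val_spec (hx : IsConj x x⁻¹) (χ : IrrCharacter G) : (χ : G → ℂ) x = (val x χ : ℂ) :=
  (Complex.conj_eq_iff_re.1 (conj_apply_real hx χ)).symm

theorem sum_val_sq (hx : IsConj x x⁻¹) :
    ∑ χ : IrrCharacter G, val x χ ^ 2 = (Nat.card (Subgroup.centralizer ({x} : Set G)) : ℝ) := by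
  have h := Chars.column_orthogonality_of_isConj (IsConj.refl x)
  simp only [val_spec hx, Complex.conj_ofReal, ← Complex.ofReal_mul, ← Complex.ofReal_sum] at h
  simp only [pow_two]
  exact_mod_cast h

theorem cnt_real (hx : IsConj x x⁻¹) (z : G) : cnt x z =
    ∑ χ : IrrCharacter G, ((val x χ ^ 2 / deg χ : ℝ) : ℂ) * conj ((χ : G → ℂ) z) := by
  refine Finset.sum_congr rfl fun χ _ => ?_
  rw [val_spec hx, (deg_spec χ).1]
  push_cast
  ring

theorem cnt_one (hx : IsConj x x⁻¹) :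
    cnt x 1 = (Nat.card (Subgroup.centralizer ({x} : Set G)) : ℂ) := by
  rw [← Chars.column_orthogonality_of_isConj (IsConj.refl x)]
  refine Finset.sum_congr rfl fun χ _ => ?_
  obtain ⟨h1, h2, -⟩ := deg_spec χ
  rw [h1, Complex.conj_natCast, conj_apply_real hx, mul_div_assoc, div_self (Nat.cast_ne_zero.2 h2.ne'), mul_one,
    pow_two]

theorem wt_inv (hx : IsConj x x⁻¹) (z : G) : wt x z⁻¹ = wt x z := by
  have h : cnt x z⁻¹ = conj (cnt x z) := by
    rw [cnt_real hx, cnt_real hx, map_sum]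
    refine Finset.sum_congr rfl fun χ _ => ?_
    rw [map_mul, Complex.conj_ofReal, Complex.conj_conj, Chars.irr_inv χ z, Complex.conj_conj]
  rw [cnt_eq_wt, cnt_eq_wt, Complex.conj_ofReal] at h
  exact_mod_cast h

/-- The mean over a subgroup of the values of a character. -/
noncomputable def fixMult (V : Subgroup G) [Fintype V] (χ : IrrCharacter G) : ℕ :=
  (CharCount.exists_nat_sum_subgroup χ V).choose

theorem fixMult_spec (V : Subgroup G) [Fintype V] (χ : IrrCharacter G) :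
    ∑ y : V, (χ : G → ℂ) y = (Nat.card V : ℂ) * fixMult V χ :=
  (CharCount.exists_nat_sum_subgroup χ V).choose_spec

theorem sum_wt_subgroup (hx : IsConj x x⁻¹) (V : Subgroup G) [Fintype V] :
    ∑ v : V, wt x v = (Nat.card V : ℝ) * ∑ χ : IrrCharacter G, val x χ ^ 2 * fixMult V χ / deg χ := by
  refine Complex.ofReal_injective ?_
  push_cast
  simp only [← cnt_eq_wt, cnt_real hx]
  rw [Finset.sum_comm, Finset.mul_sum]
  refine Finset.sum_congr rfl fun χ _ => ?_
  rw [← Finset.mul_sum, ← map_sum, fixMult_spec, map_mul, Complex.conj_natCast, Complex.conj_natCast]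
  push_cast
  ring

/-- A weighted sum of absolute values of a column. -/
theorem sq_sum_norm_le (z : G) (s : Finset (IrrCharacter G)) (w : IrrCharacter G → ℝ) :
    (∑ χ ∈ s, w χ * ‖(χ : G → ℂ) z‖) ^ 2 ≤
      (∑ χ ∈ s, w χ ^ 2) * Nat.card (Subgroup.centralizer ({z} : Set G)) := by
  refine (Finset.sum_mul_sq_le_sq_mul_sq s w _).trans (mul_le_mul_of_nonneg_left ?_ (by positivity))
  have h := Chars.column_orthogonality_of_isConj (IsConj.refl z)
  simp only [Complex.mul_conj, ← Complex.ofReal_sum] at h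
  have h' : ∑ χ : IrrCharacter G, ‖(χ : G → ℂ) z‖ ^ 2 = (Nat.card (Subgroup.centralizer ({z} : Set G)) : ℝ) := by
    simp only [← Complex.normSq_eq_norm_sq]
    exact_mod_cast h
  rw [← h']
  exact Finset.sum_le_sum_of_subset_of_nonneg (Finset.subset_univ s) fun _ _ _ => by positivity

theorem norm_cnt_sub_le (hx : IsConj x x⁻¹) (z : G) [DecidableEq (IrrCharacter G)] :
    |wt x z - 1| ≤ ∑ χ ∈ Finset.univ.erase (Chars.trivialIrr G), val x χ ^ 2 / deg χ * ‖(χ : G → ℂ) z‖ := by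
  have h1 : ((wt x z - 1 : ℝ) : ℂ) =
      ∑ χ ∈ Finset.univ.erase (Chars.trivialIrr G), ((val x χ ^ 2 / deg χ : ℝ) : ℂ) * conj ((χ : G → ℂ) z) := by
    have hv : val x (Chars.trivialIrr G) = 1 := by simp [val, Chars.trivialIrr]
    have hd : deg (Chars.trivialIrr G) = 1 := by simp [deg, charDegree, Chars.trivialIrr]
    rw [Finset.sum_erase_eq_sub (Finset.mem_univ _), ← cnt_real hx, cnt_eq_wt, hv, hd]
    simp [Chars.trivialIrr]
  have h2 := congrArg norm h1
  rw [Complex.norm_real, Real.norm_eq_abs] at h2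
  rw [h2]
  refine (norm_sum_le _ _).trans (le_of_eq (Finset.sum_congr rfl fun χ _ => ?_))
  rw [norm_mul, Complex.norm_real, Real.norm_of_nonneg (by positivity), Complex.norm_conj]

/-- The deviation from the trivial contribution, when the degrees are large. -/
theorem sq_wt_sub_one_le (hx : IsConj x x⁻¹) (z : G) {D : ℕ} (hD : 0 < D)
    (hdeg : ∀ χ : IrrCharacter G, χ ≠ Chars.trivialIrr G → D ≤ deg χ) :
    (wt x z - 1) ^ 2 * (D : ℝ) ^ 2 ≤
      (Nat.card (Subgroup.centralizer ({x} : Set G)) : ℝ) ^ 2 * Nat.card (Subgroup.centralizer ({z} : Set G)) := by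
  classical
  set s := Finset.univ.erase (Chars.trivialIrr G)
  have hS := sq_sum_norm_le z s fun χ => val x χ ^ 2 / deg χ
  have hN := norm_cnt_sub_le hx z
  have h1 : ∑ χ ∈ s, (val x χ ^ 2 / deg χ) ^ 2 ≤ (∑ χ ∈ s, val x χ ^ 2 / deg χ) ^ 2 :=
    Finset.sum_sq_le_sq_sum_of_nonneg fun χ _ => by positivity
  have h2 : (∑ χ ∈ s, val x χ ^ 2 / deg χ) * D ≤ (Nat.card (Subgroup.centralizer ({x} : Set G)) : ℝ) := by
    rw [← sum_val_sq hx, Finset.sum_mul]
    refine (Finset.sum_le_sum fun χ hχ => ?_).trans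
      (Finset.sum_le_sum_of_subset_of_nonneg (Finset.subset_univ s) fun _ _ _ => by positivity)
    have hd := hdeg χ (Finset.ne_of_mem_erase hχ)
    rw [div_mul_eq_mul_div, div_le_iff₀ (by exact_mod_cast (deg_spec χ).2.1)]
    exact mul_le_mul_of_nonneg_left (by exact_mod_cast hd) (by positivity)
  calc (wt x z - 1) ^ 2 * (D : ℝ) ^ 2
      ≤ (∑ χ ∈ s, val x χ ^ 2 / deg χ * ‖(χ : G → ℂ) z‖) ^ 2 * (D : ℝ) ^ 2 := by
        rw [← sq_abs (wt x z - 1)]; gcongr
    _ ≤ ((∑ χ ∈ s, val x χ ^ 2 / deg χ) ^ 2 * Nat.card (Subgroup.centralizer ({z} : Set G))) * (D : ℝ) ^ 2 := by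
        refine mul_le_mul_of_nonneg_right (hS.trans ?_) (by positivity)
        exact mul_le_mul_of_nonneg_right h1 (by positivity)
    _ = ((∑ χ ∈ s, val x χ ^ 2 / deg χ) * D) ^ 2 * Nat.card (Subgroup.centralizer ({z} : Set G)) := by ring
    _ ≤ _ := by gcongr

/-- Orthogonality of the column of `x` with another column. -/
theorem sum_val_mul (hx : IsConj x x⁻¹) {z : G} (hz : ¬ IsConj z x) :
    ∑ χ : IrrCharacter G, (val x χ : ℂ) * (χ : G → ℂ) z = 0 := by
  rw [← Chars.column_orthogonality_of_not_isConj hz]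
  exact Finset.sum_congr rfl fun χ _ => by rw [conj_apply_real hx, val_spec hx]; ring

theorem sum_val_fixMult (hx : IsConj x x⁻¹) (V : Subgroup G) [Fintype V] (h : ∀ v ∈ V, ¬ IsConj v x) :
    ∑ χ : IrrCharacter G, val x χ * fixMult V χ = 0 := by
  have h0 : ∑ v : V, ∑ χ : IrrCharacter G, (val x χ : ℂ) * (χ : G → ℂ) v = 0 :=
    Finset.sum_eq_zero fun v _ => sum_val_mul hx (h v v.2)
  rw [Finset.sum_comm] at h0
  simp only [← Finset.mul_sum, fixMult_spec, mul_left_comm _ (Nat.card V : ℂ)] at h0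
  rw [mul_eq_zero, or_iff_right (Chars.natCard_ne_zero)] at h0
  refine Complex.ofReal_injective ?_
  push_cast
  exact h0

end Real

end Cfsg.Agent.Lib.Ree.ClassSquare
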