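import Cfsg.Agent.Lib.Ree.Tori.Theorems

/-!
The elements of order three of a small Ree group under the split torus, and centralisers of unipotent
and mixed elements.
-/

set_option autoImplicit false

namespace Cfsg.Agent.Lib.Ree.ClassSquare

open Subgroup
open Cfsg.Agent.Lib.Ree.Tori

variable {G : Type*} [Group G] [Finite G] {K : Type*} [Field K] [Fintype K]

local notation "q" => Fintype.card K

/-- The facts about the cubes in the unipotent radical which use the coordinates. -/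
structure Cubes (S : Sys G K) : Prop where
  mul : ∀ u ∈ S.U, ∀ v ∈ S.U, u ^ 3 = 1 → v ^ 3 = 1 → (u * v) ^ 3 = 1 ∧ Commute u v
  conj_CU : ∀ u ∈ S.U, u ^ 3 = 1 → S.a * u * S.a⁻¹ ≠ u⁻¹ → ∃ g ∈ S.U, g * u * g⁻¹ ∈ S.CU
  nine : ∀ u ∈ S.U, u ^ 3 ≠ 1 → Nat.card ↥(centralizer ({u} : Set G)) ≤ 3 * q

variable {S : Sys G K} (hc : Cubes S)

/-- The subgroup of elements of order dividing three of the unipotent radical. -/
def cubeGrp : Subgroup G where
  carrier := {u | u ∈ S.U ∧ u ^ 3 = 1}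
  one_mem' := ⟨one_mem _, one_pow _⟩
  mul_mem' := fun {u v} hu hv => ⟨mul_mem hu.1 hv.1, (hc.mul u hu.1 v hv.1 hu.2 hv.2).1⟩
  inv_mem' := fun {u} hu => ⟨inv_mem hu.1, by rw [inv_pow, hu.2, inv_one]⟩

theorem mem_cubeGrp {u : G} : u ∈ cubeGrp hc ↔ u ∈ S.U ∧ u ^ 3 = 1 := Iff.rfl

theorem card_cubeGrp : Nat.card ↥(cubeGrp hc) = q ^ 2 := by
  rw [← S.card_cube]
  rfl

theorem conj_mem_cubeGrp {b u : G} (hb : b ∈ S.B) (hu : u ∈ cubeGrp hc) : b * u * b⁻¹ ∈ cubeGrp hc :=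
  ⟨S.U_conj b hb u hu.1, by rw [conj_pow, hu.2]; group⟩

theorem CU_le_cubeGrp : S.CU ≤ cubeGrp hc := fun _ hu =>
  ⟨S.CU_U hu, S.cube_CU _ (S.CU_U hu) (mem_centralizer_singleton_iff.1 (S.CU_Ca hu)).symm⟩

theorem cubeGrp_comm {u v : G} (hu : u ∈ cubeGrp hc) (hv : v ∈ cubeGrp hc) : Commute u v :=
  (hc.mul u hu.1 v hv.1 hu.2 hv.2).2

/-- The elements inverted by `a`. -/
def invGrp : Subgroup G where
  carrier := {u | u ∈ cubeGrp hc ∧ S.a * u * S.a⁻¹ = u⁻¹}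
  one_mem' := ⟨one_mem _, by group⟩
  mul_mem' := fun {u v} hu hv => ⟨mul_mem hu.1 hv.1, by
    rw [show S.a * (u * v) * S.a⁻¹ = S.a * u * S.a⁻¹ * (S.a * v * S.a⁻¹) by group, hu.2, hv.2,
      ← mul_inv_rev, (cubeGrp_comm hc hu.1 hv.1).eq]⟩
  inv_mem' := fun {u} hu => ⟨inv_mem hu.1, by
    rw [show S.a * u⁻¹ * S.a⁻¹ = (S.a * u * S.a⁻¹)⁻¹ by group, hu.2]⟩

theorem invGrp_le : invGrp hc ≤ cubeGrp hc := fun _ h => h.1

theorem card_invGrp : Nat.card ↥(invGrp hc) = q := by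
  have key : Nat.card ↥S.CU * Nat.card ↥(invGrp hc) = q * q := by
    rw [← pow_two, ← card_cubeGrp hc, ← Nat.card_prod]
    refine Nat.card_eq_of_bijective (fun p : ↥S.CU × ↥(invGrp hc) =>
      (⟨(p.1 : G) * p.2, mul_mem (CU_le_cubeGrp hc p.1.2) (invGrp_le hc p.2.2)⟩ : ↥(cubeGrp hc))) ⟨?_, ?_⟩
    · intro p p' e
      have e1 : (p.1 : G) * p.2 = p'.1 * p'.2 := congrArg Subtype.val e
      have e2 : (p'.1 : G)⁻¹ * p.1 = p'.2 * (p.2 : G)⁻¹ := by
        rw [inv_mul_eq_iff_eq_mul, ← mul_assoc, eq_mul_inv_iff_mul_eq]; exact e1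
      have h1 : (p'.1 : G)⁻¹ * p.1 ∈ S.CU := mul_mem (inv_mem p'.1.2) p.1.2
      have h2 : (p'.1 : G)⁻¹ * p.1 ∈ invGrp hc := e2 ▸ mul_mem p'.2.2 (inv_mem p.2.2)
      set w := (p'.1 : G)⁻¹ * p.1
      have h3 : w = w⁻¹ := by
        rw [← h2.2, (mem_centralizer_singleton_iff.1 (S.CU_Ca h1)).symm, mul_inv_cancel_right]
      have h4 : w = 1 := by
        have := (CU_le_cubeGrp hc h1).2
        rwa [pow_succ, pow_two, show w * w = 1 by nth_rw 2 [h3]; group, one_mul] at this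
      have h5 : (p'.1 : G) = p.1 := inv_mul_eq_one.1 h4
      refine Prod.ext (Subtype.ext h5.symm) (Subtype.ext ?_)
      rw [h5] at e1
      exact mul_left_cancel e1
    · intro u
      obtain ⟨u, hu⟩ := u
      set v := S.a * u * S.a⁻¹ with hv
      have hvP : v ∈ cubeGrp hc := conj_mem_cubeGrp hc (S.H_le S.a_mem) hu
      have hva : S.a * v * S.a⁻¹ = u := by
        rw [hv, show S.a * (S.a * u * S.a⁻¹) * S.a⁻¹ = S.a * S.a * u * (S.a * S.a)⁻¹ by group, S.a_sq]; group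
      have hcomm := cubeGrp_comm hc hu hvP
      set c := (u * v) ^ 2 with hc'
      have hcP : c ∈ cubeGrp hc := pow_mem (mul_mem hu hvP) 2
      have hcC : c ∈ S.CU := by
        refine Subgroup.mem_inf.2 ⟨hcP.1, ?_⟩
        refine pow_mem ?_ 2
        rw [mem_centralizer_singleton_iff]
        have h : S.a * (u * v) * S.a⁻¹ = u * v := by
          rw [show S.a * (u * v) * S.a⁻¹ = S.a * u * S.a⁻¹ * (S.a * v * S.a⁻¹) by group, hva, ← hv, hcomm.eq]
        exact (mul_inv_eq_iff_eq_mul.1 h).symm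
      refine ⟨(⟨c, hcC⟩, ⟨c⁻¹ * u, mul_mem (inv_mem hcP) hu, ?_⟩), Subtype.ext (mul_inv_cancel_left c u)⟩
      have hac : S.a * c * S.a⁻¹ = c := by
        rw [(mem_centralizer_singleton_iff.1 (S.CU_Ca hcC)).symm, mul_inv_cancel_right]
      have h3 : (u * v) ^ 3 = 1 := (hc.mul u hu.1 v hvP.1 hu.2 hvP.2).1
      rw [show S.a * (c⁻¹ * u) * S.a⁻¹ = (S.a * c * S.a⁻¹)⁻¹ * (S.a * u * S.a⁻¹) by group, hac, ← hv,
        eq_inv_iff_mul_eq_one]
      have hcu : Commute v c⁻¹ := (cubeGrp_comm hc hvP hcP).inv_right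
      calc c⁻¹ * v * (c⁻¹ * u) = c⁻¹ * (v * c⁻¹) * u := by group
        _ = c⁻¹ * c⁻¹ * (v * u) := by rw [hcu.eq]; group
        _ = c⁻¹ * c⁻¹ * (u * v) := by rw [hcomm.eq]
        _ = 1 := by
          rw [← mul_inv_rev, inv_mul_eq_one, hc', ← pow_add, show 2 + 2 = 3 + 1 by rfl, pow_succ, h3, one_mul]
  rw [S.card_CU] at key
  exact Nat.eq_of_mul_eq_mul_left Fintype.card_pos key

theorem invGrp_conj_H {h z : G} (hh : h ∈ S.H) (hz : z ∈ invGrp hc) : h * z * h⁻¹ ∈ invGrp hc :=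
  ⟨conj_mem_cubeGrp hc (S.H_le hh) hz.1, by
    rw [show S.a * (h * z * h⁻¹) * S.a⁻¹ = S.a * h * z * (S.a * h)⁻¹ by group,
      (S.commute_H S.a_mem hh).eq, show h * S.a * z * (h * S.a)⁻¹ = h * (S.a * z * S.a⁻¹) * h⁻¹ by group, hz.2]
    group⟩

theorem eq_one_of_fixed_invGrp {h z : G} (hh : h ∈ S.H) (hz : z ∈ invGrp hc) (hz1 : z ≠ 1) (hf : Commute h z) :
    h = 1 := by
  rcases S.sq_eq_one hh (S.fpf h hh z hz.1.1 hz1 hf) with e | e
  · exact e
  · exfalso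
    subst e
    have h2 := hz.2
    rw [hf.eq, mul_inv_cancel_right] at h2
    have h4 : z * z = 1 := by nth_rw 2 [h2]; group
    refine hz1 ?_
    have := hz.1.2
    rwa [pow_succ, pow_two, h4, one_mul] at this

/-- The split torus is transitive on the elements inverted by `a`. -/
theorem invGrp_transitive {z z' : G} (hz : z ∈ invGrp hc) (hz1 : z ≠ 1) (hz' : z' ∈ invGrp hc) (hz'1 : z' ≠ 1) :
    IsConj z z' := by
  classical
  let f : ↥S.H → {w : ↥(invGrp hc) // w ≠ 1} := fun h =>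
    ⟨⟨(h : G) * z * (h : G)⁻¹, invGrp_conj_H hc h.2 hz⟩, fun e => hz1 (conj_eq_one_iff.1 (congrArg Subtype.val e))⟩
  have hinj : Function.Injective f := by
    intro h k e
    have e' : (h : G) * z * (h : G)⁻¹ = k * z * (k : G)⁻¹ := congrArg (fun w => ((w.1 : ↥(invGrp hc)) : G)) e
    have := eq_one_of_fixed_invGrp hc (h := (k : G)⁻¹ * h) (mul_mem (inv_mem k.2) h.2) hz hz1 (by
      show (k : G)⁻¹ * h * z = z * ((k : G)⁻¹ * h)
      calc (k : G)⁻¹ * h * z = (k : G)⁻¹ * (h * z * (h : G)⁻¹) * h := by group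
        _ = _ := by rw [e']; group)
    exact Subtype.ext (inv_mul_eq_one.1 this).symm
  have hcard : Nat.card {w : ↥(invGrp hc) // w ≠ 1} = q - 1 := by
    have := Fintype.ofFinite ↥(invGrp hc)
    rw [Nat.card_eq_fintype_card, Fintype.card_subtype_compl, Fintype.card_subtype_eq, ← Nat.card_eq_fintype_card,
      card_invGrp hc]
  obtain ⟨h, hh⟩ := ((Nat.bijective_iff_injective_and_card f).2 ⟨hinj, by rw [S.card_H, hcard]⟩).2
    ⟨⟨z', hz'⟩, fun e => hz'1 (congrArg Subtype.val e)⟩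
  exact isConj_iff.2 ⟨h, congrArg (fun w => ((w.1 : ↥(invGrp hc)) : G)) hh⟩

theorem card_centralizer_invGrp {z : G} (hz : z ∈ invGrp hc) (hz1 : z ≠ 1) :
    Nat.card ↥(centralizer ({z} : Set G)) ≤ q ^ 3 := by
  have h := card_conjSet S.B z
  rw [inf_eq_right.2 (S.centralizer_U_le hz.1.1 hz1), S.card_B] at h
  have hle : q - 1 ≤ Nat.card {y // ∃ g ∈ S.B, g * z * g⁻¹ = y} := by
    rw [← S.card_H]
    refine Nat.card_le_card_of_injective (fun h : ↥S.H => ⟨(h : G) * z * (h : G)⁻¹, h, S.H_le h.2, rfl⟩) ?_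
    intro h k e
    have e' : (h : G) * z * (h : G)⁻¹ = k * z * (k : G)⁻¹ := congrArg Subtype.val e
    have := eq_one_of_fixed_invGrp hc (h := (k : G)⁻¹ * h) (mul_mem (inv_mem k.2) h.2) hz hz1 (by
      show (k : G)⁻¹ * h * z = z * ((k : G)⁻¹ * h)
      calc (k : G)⁻¹ * h * z = (k : G)⁻¹ * (h * z * (h : G)⁻¹) * h := by group
        _ = _ := by rw [e']; group)
    exact Subtype.ext (inv_mul_eq_one.1 this).symm
  refine Nat.le_of_mul_le_mul_left ?_ (show 0 < q - 1 by have := S.q_ge; omega)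
  rw [mul_comm (q - 1) (q ^ 3), ← h]
  exact Nat.mul_le_mul_right _ hle

/-- The two classes of nontrivial elements fixed by `a`. -/
theorem CU_cases {v w : G} (hv : v ∈ S.CU) (hv1 : v ≠ 1) (hw : w ∈ S.CU) (hw1 : w ≠ 1) :
    IsConj v w ∨ IsConj v⁻¹ w := by
  classical
  let O : G → Set G := fun v => {y | ∃ g ∈ S.H, g * v * g⁻¹ = y}
  have hsub : ∀ v ∈ S.CU, v ≠ 1 → O v ⊆ (S.CU : Set G) \ {1} := by
    rintro v hv hv1 _ ⟨g, hg, rfl⟩
    exact ⟨Subgroup.mem_inf.2 ⟨S.U_conj g (S.H_le hg) v (S.CU_U hv),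
      S.Ca.mul_mem (S.Ca.mul_mem (S.H_le_Ca hg) (S.CU_Ca hv)) (S.Ca.inv_mem (S.H_le_Ca hg))⟩,
      fun e => hv1 (conj_eq_one_iff.1 e)⟩
  have hbig : ∀ v ∈ S.CU, v ≠ 1 → q - 1 ≤ 2 * (O v).ncard := by
    intro v hv hv1
    have h := card_conjSet S.H v
    rw [show Nat.card {y // ∃ g ∈ S.H, g * v * g⁻¹ = y} = (O v).ncard from Nat.card_coe_set_eq _, S.card_H] at h
    have h2 : Nat.card ↥(S.H ⊓ centralizer ({v} : Set G)) ≤ 2 := by
      have hle : ((S.H ⊓ centralizer ({v} : Set G) : Subgroup G) : Set G) ⊆ {1, S.a} := by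
        rintro g ⟨hg, hgc⟩
        exact S.sq_eq_one hg (S.fpf g hg v (S.CU_U hv) hv1 (mem_centralizer_singleton_iff.1 hgc))
      have := Set.ncard_le_ncard hle (Set.toFinite _)
      rw [← Nat.card_coe_set_eq, Set.ncard_pair S.a_ne.symm] at this
      exact this
    calc q - 1 = _ := h.symm
      _ ≤ (O v).ncard * 2 := Nat.mul_le_mul_left _ h2
      _ = _ := mul_comm _ _
  have hd : Disjoint (O v) (O v⁻¹) := Set.disjoint_left.2 fun y ⟨g, hg, e⟩ ⟨k, hk, e'⟩ => by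
    set h := k⁻¹ * g
    have hh : h ∈ S.H := mul_mem (inv_mem hk) hg
    have e1 : h * v * h⁻¹ = v⁻¹ := by
      calc h * v * h⁻¹ = k⁻¹ * (g * v * g⁻¹) * k := by simp only [h]; group
        _ = v⁻¹ := by rw [e, ← e']; group
    have e2 : Commute (h * h) v := by
      show h * h * v = v * (h * h)
      rw [← mul_inv_eq_iff_eq_mul, show h * h * v * (h * h)⁻¹ = h * (h * v * h⁻¹) * h⁻¹ by group, e1,
        show h * v⁻¹ * h⁻¹ = (h * v * h⁻¹)⁻¹ by group, e1, inv_inv]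
    have e3 := S.sq_eq_one (mul_mem hh hh) (S.fpf _ (mul_mem hh hh) v (S.CU_U hv) hv1 e2)
    have e4 : h * h = 1 := e3.resolve_right fun e => S.sq_ne_a (S.H_le_Ca hh) e
    have e5 : Commute h v := by
      rcases S.sq_eq_one hh e4 with r | r <;> rw [r]
      exacts [Commute.one_left v, (mem_centralizer_singleton_iff.1 (S.CU_Ca hv)).symm]
    rw [e5.eq, mul_inv_cancel_right] at e1
    refine hv1 ?_
    have h4 : v * v = 1 := by nth_rw 2 [e1]; group
    have := (S.cube_CU v (S.CU_U hv) (mem_centralizer_singleton_iff.1 (S.CU_Ca hv)).symm)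
    rwa [pow_succ, pow_two, h4, one_mul] at this
  have hun : O v ∪ O v⁻¹ = (S.CU : Set G) \ {1} := by
    refine Set.eq_of_subset_of_ncard_le (Set.union_subset (hsub v hv hv1)
      (hsub _ (inv_mem hv) (inv_ne_one.2 hv1))) ?_ (Set.toFinite _)
    rw [Set.ncard_union_eq hd, Set.ncard_diff_singleton_of_mem (one_mem _), ← Nat.card_coe_set_eq]
    show Nat.card ↥S.CU - 1 ≤ _
    rw [S.card_CU]
    have := hbig v hv hv1
    have := hbig v⁻¹ (inv_mem hv) (inv_ne_one.2 hv1)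
    omega
  rcases (hun.ge ⟨hw, hw1⟩ : w ∈ O v ∪ O v⁻¹) with ⟨g, -, e⟩ | ⟨g, -, e⟩
  exacts [Or.inl (isConj_iff.2 ⟨g, e⟩), Or.inr (isConj_iff.2 ⟨g, e⟩)]

/-- An element of order six has a small centraliser. -/
theorem card_centralizer_six (hc : Cubes S) {z : G} (hz : orderOf z = 6) :
    Nat.card ↥(centralizer ({z} : Set G)) ≤ 3 * q := by
  obtain ⟨g, y, ⟨hyB, hy3⟩, rfl⟩ := S.mem_conjs_YB.2 (show 3 ∣ orderOf z by rw [hz]; norm_num)
  rw [card_centralizer_conj]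
  rw [orderOf_conj'] at hz
  have h3 : orderOf (y ^ 3) = 2 := by rw [orderOf_pow' _ (by norm_num), hz]; rfl
  obtain ⟨u, hu, hh⟩ := S.exists_conj_H (pow_mem hyB 3) (by
    rw [h3]; exact S.coprime_q_of_not_three (by norm_num))
  have e0 : u⁻¹ * y ^ 3 * u = u⁻¹ * y ^ 3 * u⁻¹⁻¹ := by rw [inv_inv]
  have ho : orderOf (u⁻¹ * y ^ 3 * u) = 2 := by rw [e0, orderOf_conj', h3]
  have hA : u⁻¹ * y ^ 3 * u = S.a := (S.sq_eq_one hh (by rw [← pow_two, ← ho]; exact pow_orderOf_eq_one _)).resolve_left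
    fun e => by rw [e, orderOf_one] at ho; norm_num at ho
  set w := u⁻¹ * y * u⁻¹⁻¹ with hw
  rw [← card_centralizer_conj u⁻¹ y]
  have hw3 : w ^ 3 = S.a := by rw [hw, conj_pow, ← e0, hA]
  have how : orderOf w = 6 := by rw [hw, orderOf_conj', hz]
  have hwCa : w ∈ S.Ca := mem_centralizer_singleton_iff.2 (hw3 ▸ (Commute.refl w).pow_right 3).eq
  have hwB : w ∈ S.B := by rw [hw, inv_inv]; exact mul_mem (mul_mem (inv_mem (S.U_le hu)) hyB) (S.U_le hu)
  set v := w ^ 2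
  have hov : orderOf v = 3 := by rw [orderOf_pow' _ (by norm_num), how]; rfl
  have hvU : v ∈ S.U := S.mem_U_of_three (pow_mem hwB 2) (j := 1) (by rw [hov, pow_one])
  have hv1 : v ≠ 1 := fun e => by rw [e, orderOf_one] at hov; norm_num at hov
  have hvCU : v ∈ S.CU := Subgroup.mem_inf.2 ⟨hvU, pow_mem hwCa 2⟩
  have hle : ∀ g ∈ centralizer ({w} : Set G), g ∈ S.CB ∧ Commute g v := fun g hg => by
    have hgw : Commute g w := mem_centralizer_singleton_iff.1 hg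
    have hgv : Commute g v := hgw.pow_right 2
    exact ⟨Subgroup.mem_inf.2 ⟨S.centralizer_U_le hvU hv1 (mem_centralizer_singleton_iff.2 hgv.eq),
      mem_centralizer_singleton_iff.2 (hw3 ▸ hgw.pow_right 3).eq⟩, hgv⟩
  let X := {h : G // h ∈ ({1, S.a} : Set G)}
  have hX : Nat.card X ≤ 2 := by
    rw [show Nat.card X = ({1, S.a} : Set G).ncard from Nat.card_coe_set_eq _, Set.ncard_pair S.a_ne.symm]
  have hsp : ∀ g : ↥(centralizer ({w} : Set G)), ∃ p : ↥S.CU × X, (g : G) = (p.1 : G) * (p.2 : G) := by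
    intro g
    obtain ⟨hgB, hgv⟩ := hle g g.2
    obtain ⟨c, hcc, h, hh', e⟩ := S.CB_split hgB
    have hcv : Commute c v := cubeGrp_comm hc (CU_le_cubeGrp hc hcc) (CU_le_cubeGrp hc hvCU)
    have hhv : Commute h v := by
      have : h = c⁻¹ * g := by rw [e, inv_mul_cancel_left]
      rw [this]; exact hcv.inv_left.mul_left hgv
    exact ⟨(⟨c, hcc⟩, ⟨h, S.sq_eq_one hh' (S.fpf h hh' v hvU hv1 hhv)⟩), e⟩
  choose f hf using hsp
  refine (Nat.card_le_card_of_injective f fun g g' e => Subtype.ext (by rw [hf, hf, e])).trans ?_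
  rw [Nat.card_prod, S.card_CU]
  have := Nat.mul_le_mul_left q hX
  omega

/-- An element of order nine has a small centraliser. -/
theorem card_centralizer_nine (hc : Cubes S) {z : G} (hz : orderOf z = 9) :
    Nat.card ↥(centralizer ({z} : Set G)) ≤ 3 * q := by
  obtain ⟨g, y, ⟨hyB, hy3⟩, rfl⟩ := S.mem_conjs_YB.2 (show 3 ∣ orderOf z by rw [hz]; norm_num)
  rw [card_centralizer_conj]
  rw [orderOf_conj'] at hz
  refine hc.nine y (S.mem_U_of_three hyB (j := 2) (by rw [hz]; rfl)) fun e => ?_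
  have := Nat.le_of_dvd (by norm_num) (orderOf_dvd_of_pow_eq_one e)
  omega

/-- Every element of order three is conjugate to one inverted or to one fixed by `a`. -/
theorem three_cases (hc : Cubes S) {z : G} (hz : orderOf z = 3) :
    (∃ y ∈ invGrp hc, y ≠ 1 ∧ IsConj y z) ∨ ∃ y ∈ S.CU, y ≠ 1 ∧ IsConj y z := by
  obtain ⟨g, hg⟩ := S.exists_conj_U (x := z) (j := 1) (by rw [hz, pow_one])
  set u := g * z * g⁻¹ with hu
  have hou : orderOf u = 3 := by rw [hu, orderOf_conj', hz]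
  have hu1 : u ≠ 1 := fun e => by rw [e, orderOf_one] at hou; norm_num at hou
  have hu3 : u ^ 3 = 1 := hou ▸ pow_orderOf_eq_one u
  have hzu : IsConj u z := (isConj_iff.2 ⟨g, rfl⟩ : IsConj z u).symm
  by_cases hi : S.a * u * S.a⁻¹ = u⁻¹
  · exact Or.inl ⟨u, ⟨⟨hg, hu3⟩, hi⟩, hu1, hzu⟩
  · obtain ⟨k, -, hkc⟩ := hc.conj_CU u hg hu3 hi
    exact Or.inr ⟨_, hkc, fun e => hu1 (conj_eq_one_iff.1 e),
      (isConj_iff.2 ⟨k, rfl⟩ : IsConj u (k * u * k⁻¹)).symm.trans hzu⟩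

end Cfsg.Agent.Lib.Ree.ClassSquare
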