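import Cfsg.Agent.Lib.Ree.ClassSquare.Steinberg
import Cfsg.Agent.Lib.Ree.ClassSquare.Unip
import Cfsg.Agent.Lib.Blocks.DefectProps
import Cfsg.Agent.Lib.CharCount.DefectZero
import Cfsg.Agent.Lib.Ree.Tori.Solvable

/-!
Every involution is a product of two conjugates of a real element on which the Steinberg character
takes a value `±1`: the central characters at an involution vanish modulo three outside the Steinberg
character.
-/

set_option autoImplicit false

namespace Cfsg.Agent.Lib.Ree.ClassSquare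

open Cfsg Cfsg.Agent.Lib Subgroup
open Cfsg.Agent.Lib.Ree.Tori
open Cfsg.Agent.Lib.Blocks (localRing)
open scoped ComplexConjugate

universe u

variable {G : Type u} [Group G] [Fintype G] {K : Type*} [Field K] [Fintype K]

local notation "q" => Fintype.card K

variable {S : Sys G K} (hc : Cubes S)
include hc

theorem centralChar_a_mem (hd : DegBound S) {M : Ideal AlgInt} (hM : IsPModular 3 M) {χ : IrrCharacter G}
    (hχ : χ ≠ St S) : MemLocalIdeal M (centralChar (χ : G → ℂ) S.a) := by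
  classical
  haveI := hM.2.1.isPrime
  have : Fact (Nat.Prime 3) := ⟨Nat.prime_three⟩
  by_contra hbad
  obtain ⟨f1, f2⟩ := fac_three S
  have hB : IsPBlock M (blockOf M (χ : G → ℂ)) := Blocks.isPBlock_blockOf χ
  have hχB : χ ∈ blockOf M (χ : G → ℂ) := Blocks.mem_blockOf_self χ
  obtain ⟨D, hD⟩ := Blocks.exists_isDefectGroup (p := 3) hB
  by_cases hD1 : D = ⊥
  · refine hχ (eq_St S hd ?_)
    have h0 := (Blocks.blockDefect_eq_zero_iff hM hB hD).2 hD1
    have h1 := Blocks.factorization_degree_add_blockDefect hM hB hχB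
    rw [h0, add_zero] at h1
    rw [f2, show deg χ = charDegree (χ : G → ℂ) from rfl]
    exact (Nat.prime_three.pow_dvd_iff_le_factorization (CharCount.charDegree_ne_zero χ)).2 (by omega)
  -- move the defect group into the unipotent radical
  obtain ⟨k, hk⟩ : ∃ k : G, D.map (MulAut.conj k).toMonoidHom ≤ S.U := by
    obtain ⟨P, hP⟩ := (Blocks.isPGroup_of_isDefectGroup hD).exists_le_sylow
    obtain ⟨Q, hQ⟩ := S.card_sylow_three S.U S.card_U
    obtain ⟨k, hk⟩ := MulAction.exists_smul_eq G P Q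
    refine ⟨k, ?_⟩
    rintro _ ⟨d, hd', rfl⟩
    rw [hQ, ← hk, Sylow.coe_subgroup_smul, Subgroup.mem_pointwise_smul_iff_inv_smul_mem, ← map_inv,
      MulAut.smul_def]
    simpa [mul_assoc] using hP hd'
  have hD' := Blocks.isDefectGroup_conj hD k
  set E := D.map (MulAut.conj k).toMonoidHom with hE
  have hE1 : E ≠ ⊥ := fun e => hD1 ((Subgroup.map_eq_bot_iff_of_injective D (MulAut.conj k).injective).1 e)
  obtain ⟨g, hg, hgE⟩ := Blocks.isDefectGroup_iff.1 hD'
  set H' := normalizer (E : Set G) with hH'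
  have hHB : H' ≤ S.B := by
    intro y hy
    obtain ⟨⟨e, he⟩, he1⟩ := (Subgroup.ne_bot_iff_exists_ne_one).mp hE1
    exact S.mem_B_of_conj_U (hk he) (fun h => he1 (Subtype.ext h))
      (S.U_le (hk ((Subgroup.mem_normalizer_iff.1 hy e).1 he)))
  have hC : centralizer (E : Set G) ≤ H' := centralizer_le_normalizer _
  have hgC : g ∈ centralizer (E : Set G) := Blocks.le_centralizer_singleton_iff.1 hgE.2.1
  obtain ⟨ξ, hξ⟩ := Blocks.exists_brPhi_eq hM hgE.1 hC le_rfl hB hgC hg.2.1 hχB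
  have hN : (S.U.subgroupOf H').Normal := ⟨fun y hy b => by
    simpa [Subgroup.mem_subgroupOf] using S.U_conj b (hHB b.2) y (Subgroup.mem_subgroupOf.1 hy)⟩
  have hNp : IsPGroup 3 ↥(S.U.subgroupOf H') :=
    (IsPGroup.of_card (n := 3 * (2 * S.m + 1)) (by rw [S.card_U, f2]) : IsPGroup 3 ↥S.U).of_injective
      ((MonoidHom.codRestrict (H'.subtype.comp (S.U.subgroupOf H').subtype) S.U fun y => y.2)) fun a b e =>
        Subtype.ext (Subtype.ext (congrArg Subtype.val e :))
  refine hbad ((Blocks.omegaBar_classSumR_eq_zero_iff χ S.a).1 ?_)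
  rw [← hξ, Blocks.brPhi_apply]
  refine Blocks.omegaBar_eq_zero_of_coeff_centralizer hM (S.U.subgroupOf H') hNp ξ fun y hy => ?_
  simp only [Blocks.coe_brR, Blocks.coeff_trunc, Blocks.classSumR, Blocks.coeff_classSum]
  split_ifs with h1 h2
  swap
  · exact map_zero _
  swap
  · exact map_zero _
  exfalso
  -- an involution of `H'` centralising `E` and the unipotent part of `H'`
  have hord : orderOf (y : G) = 2 := by
    obtain ⟨c, hcy⟩ := isConj_iff.1 h2
    rw [← hcy, orderOf_conj', S.orderOf_a]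
  obtain ⟨u, hu, hh⟩ := S.exists_conj_H (hHB y.2)
    (by rw [hord]; exact S.coprime_q_of_not_three (by norm_num))
  have ho : orderOf (u⁻¹ * (y : G) * u) = 2 := by
    rw [show u⁻¹ * (y : G) * u = u⁻¹ * (y : G) * u⁻¹⁻¹ by rw [inv_inv], orderOf_conj', hord]
  have hA : u⁻¹ * (y : G) * u = S.a := (S.sq_eq_one hh (by rw [← pow_two, ← ho]; exact pow_orderOf_eq_one _)).resolve_left
    fun e => by rw [e, orderOf_one] at ho; norm_num at ho
  have hyeq : (y : G) = u * S.a * u⁻¹ := by rw [← hA]; group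
  have hcube : ∀ e ∈ E, e ∈ cubeGrp hc := by
    intro e he
    have hcy : Commute e (y : G) := Subgroup.mem_centralizer_iff.1 h1 e he
    have : u⁻¹ * e * u ∈ S.CU := Subgroup.mem_inf.2
      ⟨mul_mem (mul_mem (inv_mem hu) (hk he)) hu, mem_centralizer_singleton_iff.2 (by
        rw [← hA]
        calc u⁻¹ * e * u * (u⁻¹ * (y : G) * u) = u⁻¹ * (e * y) * u := by group
          _ = u⁻¹ * ((y : G) * e) * u := by rw [hcy.eq]
          _ = _ := by group)⟩
    have h' := conj_mem_cubeGrp hc (S.U_le hu) (CU_le_cubeGrp hc this)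
    rwa [show u * (u⁻¹ * e * u) * u⁻¹ = e by group] at h'
  have hle : cubeGrp hc ≤ S.CU := by
    intro p hp
    set p' := u * p * u⁻¹ with hp'
    have hp'c : p' ∈ cubeGrp hc := conj_mem_cubeGrp hc (S.U_le hu) hp
    have hp'H : p' ∈ H' := hC (Subgroup.mem_centralizer_iff.2 fun e he => (cubeGrp_comm hc (hcube e he) hp'c).eq)
    have h3 := congrArg Subtype.val (Subgroup.mem_centralizer_iff.1 hy ⟨p', hp'H⟩ hp'c.1)
    simp only [Subgroup.coe_mul] at h3
    rw [hyeq, hp'] at h3
    refine Subgroup.mem_inf.2 ⟨hp.1, mem_centralizer_singleton_iff.2 ?_⟩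
    calc p * S.a = u⁻¹ * (u * p * u⁻¹ * (u * S.a * u⁻¹)) * u := by group
      _ = u⁻¹ * (u * S.a * u⁻¹ * (u * p * u⁻¹)) * u := by rw [h3]
      _ = S.a * p := by group
  have h4 := Subgroup.card_le_of_le hle
  rw [card_cubeGrp hc, S.card_CU] at h4
  have := S.q_ge
  have : q * 2 ≤ q ^ 2 := by rw [pow_two]; exact Nat.mul_le_mul_left _ (by omega)
  omega

/-- Gow's argument at an involution. -/
theorem cnt_a_ne_zero (hd : DegBound S) {x : G} (hx : IsConj x x⁻¹)
    (hst : (St S : G → ℂ) x = 1 ∨ (St S : G → ℂ) x = -1) : cnt x S.a ≠ 0 := by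
  classical
  intro h0
  obtain ⟨M, hM⟩ := CharCount.exists_isPModular 3 Nat.prime_three
  haveI := hM.2.1.isPrime
  have hq := S.q_ge
  have hinv : ∀ χ : IrrCharacter G, conj ((χ : G → ℂ) S.a) = (χ : G → ℂ) S.a := fun χ => by
    rw [← Chars.irr_inv χ S.a, S.a_inv]
  set i := (centralizer ({S.a} : Set G)).index
  have hsum : ∑ χ : IrrCharacter G, (χ : G → ℂ) x ^ 2 * centralChar (χ : G → ℂ) S.a = 0 := by
    rw [← mul_zero (i : ℂ), ← h0, cnt, Finset.mul_sum]
    refine Finset.sum_congr rfl fun χ _ => ?_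
    rw [hinv, centralChar]
    ring
  rw [← Finset.add_sum_erase _ _ (Finset.mem_univ (St S))] at hsum
  have h1 : MemLocalIdeal M ((St S : G → ℂ) x ^ 2 * centralChar (St S : G → ℂ) S.a) := by
    rw [eq_neg_of_add_eq_zero_left hsum]
    refine Blocks.memLocalIdeal_neg (Blocks.memLocalIdeal_sum _ _ fun χ hχ => ?_)
    exact Blocks.memLocalIdeal_mul_left
      (Blocks.isIntegral_mem_localRing ((Chars.irr_isIntegral χ x).pow 2))
      (centralChar_a_mem hc hd hM (Finset.ne_of_mem_erase hχ))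
  have h2 : (St S : G → ℂ) x ^ 2 * centralChar (St S : G → ℂ) S.a = ((q ^ 2 - q + 1 : ℕ) : ℂ) := by
    rw [show (St S : G → ℂ) x ^ 2 = 1 by rcases hst with e | e <;> rw [e] <;> ring, one_mul, centralChar,
      St_a S, St_one S]
    have hi : i * (q * (q - 1) * (q + 1)) = q ^ 3 * (q - 1) * ((q + 1) * (q ^ 2 - q + 1)) := by
      rw [← S.card_Ca, ← S.cube_add_one, ← S.card_G]
      exact Subgroup.index_mul_card _
    have hi' : i = q ^ 2 * (q ^ 2 - q + 1) := Nat.eq_of_mul_eq_mul_right (m := q * (q - 1) * (q + 1))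
      (Nat.mul_pos (Nat.mul_pos (by omega) (by omega)) (by omega)) (hi.trans (by ring))
    show (i : ℂ) * _ / _ = _
    have hq0 : (q : ℂ) ≠ 0 := Nat.cast_ne_zero.2 (by omega)
    rw [hi', Nat.cast_mul, Nat.cast_pow]
    field_simp
  rw [h2, Blocks.memLocalIdeal_natCast_iff hM] at h1
  exact absurd (Nat.eq_one_of_dvd_coprimes S.three_coprime_big dvd_rfl h1) (by norm_num)

end Cfsg.Agent.Lib.Ree.ClassSquare
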