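import Mathlib

/-!
Arithmetic of the degree attached to a big torus of a small Ree group.
-/

set_option autoImplicit false

namespace Cfsg.Agent.Lib.Ree.ClassSquare

/-- The lower bound on a degree with prescribed residue and divisors. -/
theorem degree_lower_bound {q r : ℕ} {D ε b : ℤ} (hr : r * r = 3 * q) (hq : 27 ≤ q) (h3r : 3 * r ≤ q)
    (hodd : q % 2 = 1) (hε : ε = 1 ∨ ε = -1) (hD : 0 < D)
    (hcop : Nat.Coprime (q + r + 1) 6)
    (hres : D = ((q + r + 1 : ℕ) : ℤ) * b + 6 * ε)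
    (hdiv : (((q - 1) / 2 * (q - r + 1) : ℕ) : ℤ) ∣ D) :
    ((r * (q - 1) * (q - r + 1) : ℕ) : ℤ) ≤ D := by
  obtain ⟨M, hM⟩ := hdiv
  have h1 : ((((q - 1) / 2 * (q - r + 1) : ℕ) : ℤ)) * 2 = ((q : ℤ) - 1) * ((q : ℤ) - r + 1) := by
    have e : (q - 1) / 2 * 2 = q - 1 := by omega
    calc ((((q - 1) / 2 * (q - r + 1) : ℕ) : ℤ)) * 2 = (((q - 1) / 2 * 2 * (q - r + 1) : ℕ) : ℤ) := by push_cast; ring
      _ = _ := by rw [e]; push_cast [show 1 ≤ q by omega, show r ≤ q by omega]; ring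
  have hrz : (r : ℤ) * r = 3 * q := by exact_mod_cast hr
  set c : ℤ := ((q + r + 1 : ℕ) : ℤ) with hc
  have hcz : c = (q : ℤ) + r + 1 := by rw [hc]; push_cast; ring
  have key : c ∣ 6 * (M - 2 * ε * r) := by
    refine ⟨6 * M - (r : ℤ) * ((q - 2 * r + 5) * M - 2 * b), ?_⟩
    have e2 : ((q : ℤ) - 1) * ((q : ℤ) - r + 1) * M = 2 * (c * b + 6 * ε) := by
      rw [← hres, hM, ← h1]; ring
    rw [hcz] at e2 ⊢
    linear_combination (r : ℤ) * e2 + (2 - 2 * (r : ℤ)) * M * hrz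
  have hcop' : IsCoprime c 6 := by
    rw [hc]
    exact_mod_cast Nat.Coprime.isCoprime hcop
  obtain ⟨t, ht⟩ := hcop'.dvd_of_dvd_mul_left key
  have hrpos : (0 : ℤ) < r := by
    have : r ≠ 0 := fun h => by rw [h] at hr; omega
    exact_mod_cast Nat.pos_of_ne_zero this
  have hN0 : (0 : ℤ) < (((q - 1) / 2 * (q - r + 1) : ℕ) : ℤ) := by
    exact_mod_cast Nat.mul_pos (show 0 < (q - 1) / 2 by omega) (show 0 < q - r + 1 by omega)
  have hM0 : 0 < M := (mul_pos_iff_of_pos_left hN0).1 (hM ▸ hD)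
  have h3rz : 3 * (r : ℤ) ≤ q := by exact_mod_cast h3r
  have hM2 : 2 * (r : ℤ) ≤ M := by
    rcases hε with e | e <;> subst e
    · rcases le_or_gt 0 t with h | h
      · nlinarith
      · nlinarith
    · rcases le_or_gt 1 t with h | h
      · nlinarith
      · nlinarith
  calc ((r * (q - 1) * (q - r + 1) : ℕ) : ℤ) = (r : ℤ) * (((q : ℤ) - 1) * ((q : ℤ) - r + 1)) := by
        push_cast [show 1 ≤ q by omega, show r ≤ q by omega]; ring
    _ = (((q - 1) / 2 * (q - r + 1) : ℕ) : ℤ) * (2 * r) := by rw [← h1]; ring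
    _ ≤ (((q - 1) / 2 * (q - r + 1) : ℕ) : ℤ) * M := mul_le_mul_of_nonneg_left hM2 hN0.le
    _ = D := hM.symm

end Cfsg.Agent.Lib.Ree.ClassSquare
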