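import Cfsg.Agent.Lib.Ree.ClassSquare.Torus
import Cfsg.Agent.Lib.Ree.ClassSquare.TorusArith

/-!
The degree of the characters attached to a torus of order `q + r + 1`, and the square of the class of one
of its elements at elements of order three.
-/

set_option autoImplicit false
set_option linter.unusedSectionVars false

namespace Cfsg.Agent.Lib.Ree.ClassSquare

open Cfsg Cfsg.Agent.Lib Subgroup
open Cfsg.Agent.Lib.Ree.Tori
open scoped ComplexConjugate

universe u

variable {G : Type u} [Group G] [Fintype G] {K : Type*} [Field K] [Fintype K]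

local notation "q" => Fintype.card K

variable {S : Sys G K} {T : Subgroup G} [Fintype ↥T] {x : G} {s : Finset (IrrCharacter G)} {D : ℕ}

/-- An element of order prime to the torus meets no conjugate of it. -/
theorem off_of_coprime {z : G} (hz : (orderOf z).Coprime (Nat.card ↥T)) (g : G) (h : g⁻¹ * z * g ∈ T) :
    g⁻¹ * z * g = 1 := by
  have ho : orderOf (g⁻¹ * z * g) = orderOf z := by
    rw [show g⁻¹ * z * g = g⁻¹ * z * g⁻¹⁻¹ by rw [inv_inv], orderOf_conj']
  exact orderOf_eq_one_iff.1 (Nat.eq_one_of_dvd_coprimes hz ho.dvd (Subgroup.orderOf_dvd_natCard _ h))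

theorem big_facts_card (hT : S.IsBig T) :
    (Nat.card ↥T).Coprime q ∧ (Nat.card ↥T).Coprime (q - 1) ∧ (Nat.card ↥T).Coprime 6 := by
  obtain ⟨b1, b2, -⟩ := S.big_facts
  refine ⟨b1.coprime_dvd_left (S.big_dvd hT), b2.coprime_dvd_left (S.big_dvd hT), ?_⟩
  rw [show (6 : ℕ) = 2 * 3 by norm_num]
  exact (Nat.Coprime.mul_right (Nat.coprime_two_right.2 S.odd_big) S.three_coprime_big.symm).coprime_dvd_left
    (S.big_dvd hT)

/-- The degree is divisible by the order of the other big torus. -/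
theorem dvd_small_torus (hs : TorusSet S T x s D) {T₁ : Subgroup G} (hT₁ : S.IsBig T₁)
    (hco : (Nat.card ↥T₁).Coprime (Nat.card ↥T)) (hk : 6 ≤ s.card) : Nat.card ↥T₁ ∣ D := by
  classical
  haveI : Fintype ↥T₁ := Fintype.ofFinite _
  haveI := big_isMulCommutative hT₁
  obtain ⟨χ₀, hχ₀⟩ := Finset.card_pos.1 (show 0 < s.card by omega)
  have heq : ∀ χ ∈ s, ∀ l, mult T₁ χ l = mult T₁ χ₀ l := fun χ hχ l => mult_congr T₁ (fun y hy =>
    hs.off_eq y (fun g h => off_of_coprime (hco.coprime_dvd_left (Subgroup.orderOf_dvd_natCard _ hy)) g h)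
      χ hχ χ₀ hχ₀) l
  have hconst : ∀ l, mult T₁ χ₀ l = mult T₁ χ₀ (Chars.trivialIrr ↥T₁) := by
    intro l
    by_cases hl : l = Chars.trivialIrr ↥T₁
    · rw [hl]
    have h := sum_sq_sub T₁ (supported_big hT₁ l (Chars.trivialIrr ↥T₁))
    rw [hits_self hT₁ hl, hits_trivial, hits_eq_zero T₁ fun g => act_ne_trivial g hl,
      hits_eq_zero T₁ fun g e => hl (by rw [← e, act_trivial]), card_normalizer_big S hT₁] at h
    set w : IrrCharacter G → ℤ := fun χ => (mult T₁ χ l : ℤ) - mult T₁ χ (Chars.trivialIrr ↥T₁) with hw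
    have h7 : ∑ χ, w χ * w χ = 7 := by
      refine mul_left_cancel₀ (show (Nat.card ↥T₁ : ℤ) ≠ 0 by exact_mod_cast Nat.card_pos.ne') ?_
      push_cast at h
      linear_combination h
    have hconstv : ∀ (χ : IrrCharacter G) (v : ℂ), (∀ y : ↥T₁, y ≠ 1 → (χ : G → ℂ) y = v) →
        (w χ : ℂ) = -v := by
      intro χ v hv
      rw [hw]
      push_cast
      rw [← mult_spec, ← mult_spec, ← Chars.classInner_sub_right, classInner,
        inv_mul_eq_iff_eq_mul₀ Chars.natCard_ne_zero]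
      have hsum : ∑ y : ↥T₁, conj ((l : ↥T₁ → ℂ) y) = 0 := by
        have h0 := Chars.classInner_irr_of_ne (Ne.symm hl)
        rw [classInner, mul_eq_zero, or_iff_right (inv_ne_zero Chars.natCard_ne_zero)] at h0
        rw [← h0]; simp [Chars.trivialIrr]
      calc ∑ y : ↥T₁, (χ : G → ℂ) y * conj (((l : ↥T₁ → ℂ) - (Chars.trivialIrr ↥T₁ : ↥T₁ → ℂ)) y)
          = ∑ y : ↥T₁, v * (conj ((l : ↥T₁ → ℂ) y) - 1) := by
            refine Finset.sum_congr rfl fun y _ => ?_
            rw [Pi.sub_apply, map_sub, show (Chars.trivialIrr ↥T₁ : ↥T₁ → ℂ) y = 1 from rfl, map_one]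
            by_cases hy : y = 1
            · rw [hy, linear_one, map_one, sub_self, mul_zero, mul_zero]
            · rw [hv y hy]
        _ = _ := by
            rw [← Finset.mul_sum, Finset.sum_sub_distrib, hsum, Finset.sum_const, Finset.card_univ,
              ← Nat.card_eq_fintype_card, nsmul_one]
            ring
    have h1 : w (Chars.trivialIrr G) = -1 := by exact_mod_cast hconstv _ 1 fun y _ => rfl
    have h2 : w (St S) = 1 := by
      have := hconstv (St S) (-1) fun y hy => St_big S hT₁ y.2 fun e => hy (Subtype.ext e)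
      rw [neg_neg] at this
      exact_mod_cast this
    have hsub := Finset.sum_le_sum_of_subset_of_nonneg (f := fun χ => w χ * w χ)
      (Finset.subset_univ (insert (Chars.trivialIrr G) (insert (St S) s))) fun χ _ _ => mul_self_nonneg _
    rw [Finset.sum_insert (by simp [hs.triv, (St_ne_trivial S).symm]), Finset.sum_insert hs.steinberg, h1, h2, h7,
      Finset.sum_congr rfl (g := fun _ => w χ₀ * w χ₀) (fun χ hχ => by simp only [hw, heq χ hχ]),
      Finset.sum_const, nsmul_eq_mul] at hsub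
    have hw0 : w χ₀ = 0 := by
      by_contra hne
      have h1 : (1 : ℤ) ≤ w χ₀ * w χ₀ := mul_self_pos.2 hne
      have hk' : (6 : ℤ) ≤ (s.card : ℤ) := by exact_mod_cast hk
      nlinarith
    have : (mult T₁ χ₀ l : ℤ) = mult T₁ χ₀ (Chars.trivialIrr ↥T₁) := sub_eq_zero.1 hw0
    exact_mod_cast this
  refine ⟨mult T₁ χ₀ (Chars.trivialIrr ↥T₁), ?_⟩
  have h := apply_eq_sum_mult T₁ χ₀ 1
  rw [Finset.sum_congr rfl (g := fun _ => (mult T₁ χ₀ (Chars.trivialIrr ↥T₁) : ℂ))
    (fun l _ => by rw [linear_one, mul_one, hconst l]), Finset.sum_const, Finset.card_univ, card_irr,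
    OneMemClass.coe_one, (deg_spec χ₀).1, hs.deg_eq χ₀ hχ₀, nsmul_eq_mul] at h
  exact_mod_cast h

/-- The degree is divisible by the order of the squares in the split torus. -/
theorem dvd_half (hs : TorusSet S T x s D) (hT : S.IsBig T) (hk : 6 ≤ s.card) : (q - 1) / 2 ∣ D := by
  classical
  haveI : Fintype ↥S.H := Fintype.ofFinite _
  haveI := S.cyc
  haveI : IsMulCommutative ↥S.H := inferInstance
  have hq := S.q_ge
  obtain ⟨χ₀, hχ₀⟩ := Finset.card_pos.1 (show 0 < s.card by omega)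
  have heq : ∀ χ ∈ s, ∀ l, mult S.H χ l = mult S.H χ₀ l := fun χ hχ l => mult_congr S.H (fun y hy =>
    hs.off_eq y (fun g h => off_of_coprime ((big_facts_card hT).2.1.symm.coprime_dvd_left
      (S.card_H ▸ Subgroup.orderOf_dvd_natCard _ hy)) g h) χ hχ χ₀ hχ₀) l
  set a' : ↥S.H := ⟨S.a, S.a_mem⟩
  have ha' : a' ≠ 1 := fun e => S.a_ne (congrArg Subtype.val e)
  have hconst : ∀ la lb : IrrCharacter ↥S.H, (la : ↥S.H → ℂ) a' = (lb : ↥S.H → ℂ) a' →
      mult S.H χ₀ la = mult S.H χ₀ lb := by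
    intro la lb hab
    have hsup : Supported S.H la lb := by
      refine ⟨by rw [linear_one, linear_one], fun y g hne hm => S.conj_mem_normalizer y.2 (fun h => ?_) hm⟩
      rcases S.sq_eq_one y.2 h with e | e
      · exact hne (by rw [show y = 1 from Subtype.ext e, linear_one, linear_one])
      · exact hne (by rw [show y = a' from Subtype.ext e, hab])
    have h := sum_sq_sub S.H hsup
    have h1 := hits_le S.H la la
    have h2 := hits_le S.H lb lb
    rw [S.card_normalizer_H] at h1 h2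
    set w : IrrCharacter G → ℤ := fun χ => (mult S.H χ la : ℤ) - mult S.H χ lb with hw
    have h4 : ∑ χ, w χ * w χ ≤ 4 := by
      refine le_of_mul_le_mul_left ?_ (show (0 : ℤ) < (Nat.card ↥S.H : ℤ) by exact_mod_cast Nat.card_pos)
      rw [h, S.card_H]
      have h1' : (hits S.H la la : ℤ) ≤ 2 * ((q - 1 : ℕ) : ℤ) := by exact_mod_cast h1
      have h2' : (hits S.H lb lb : ℤ) ≤ 2 * ((q - 1 : ℕ) : ℤ) := by exact_mod_cast h2
      have : (0 : ℤ) ≤ hits S.H lb la := by positivity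
      have : (0 : ℤ) ≤ hits S.H la lb := by positivity
      linarith
    have hsub := Finset.sum_le_sum_of_subset_of_nonneg (f := fun χ => w χ * w χ)
      (Finset.subset_univ s) fun χ _ _ => mul_self_nonneg _
    rw [Finset.sum_congr rfl (g := fun _ => w χ₀ * w χ₀) (fun χ hχ => by simp only [hw, heq χ hχ]),
      Finset.sum_const, nsmul_eq_mul] at hsub
    have hw0 : w χ₀ = 0 := by
      by_contra hne
      have h1 : (1 : ℤ) ≤ w χ₀ * w χ₀ := mul_self_pos.2 hne
      have hk' : (6 : ℤ) ≤ (s.card : ℤ) := by exact_mod_cast hk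
      nlinarith
    have : (mult S.H χ₀ la : ℤ) = mult S.H χ₀ lb := sub_eq_zero.1 hw0
    exact_mod_cast this
  have hpm : ∀ l : IrrCharacter ↥S.H, (l : ↥S.H → ℂ) a' = 1 ∨ (l : ↥S.H → ℂ) a' = -1 := fun l =>
    mul_self_eq_one_iff.1 (by rw [← linear_mul, show a' * a' = 1 from Subtype.ext S.a_sq, linear_one])
  set P := Finset.univ.filter fun l : IrrCharacter ↥S.H => (l : ↥S.H → ℂ) a' = 1
  set N := Finset.univ.filter fun l : IrrCharacter ↥S.H => ¬ (l : ↥S.H → ℂ) a' = 1
  have hPN : P.card + N.card = q - 1 := by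
    rw [Finset.card_filter_add_card_filter_not, Finset.card_univ, card_irr, S.card_H]
  have hsum : ∑ l : IrrCharacter ↥S.H, (l : ↥S.H → ℂ) a' = 0 := by
    have h := sum_irr_mul_conj S.H a' 1
    simpa [linear_one, ha'] using h
  rw [← Finset.sum_filter_add_sum_filter_not Finset.univ fun l : IrrCharacter ↥S.H => (l : ↥S.H → ℂ) a' = 1,
    Finset.sum_congr rfl (g := fun _ => (1 : ℂ)) (fun l hl => (Finset.mem_filter.1 hl).2),
    Finset.sum_congr (s₁ := N) rfl (g := fun _ => (-1 : ℂ)) (fun l hl => (hpm l).resolve_left (Finset.mem_filter.1 hl).2),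
    Finset.sum_const, Finset.sum_const, nsmul_one, nsmul_eq_mul] at hsum
  have heqc : P.card = N.card := by
    have : (P.card : ℂ) = (N.card : ℂ) := by linear_combination hsum
    exact_mod_cast this
  have hhalf : P.card = (q - 1) / 2 := by omega
  obtain ⟨lp, hlp⟩ := Finset.card_pos.1 (show 0 < P.card by omega)
  obtain ⟨ln, hln⟩ := Finset.card_pos.1 (show 0 < N.card by omega)
  have hv : ∀ l ∈ N, (l : ↥S.H → ℂ) a' = -1 := fun l hl => (hpm l).resolve_left (Finset.mem_filter.1 hl).2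
  refine ⟨mult S.H χ₀ lp + mult S.H χ₀ ln, ?_⟩
  have h := apply_eq_sum_mult S.H χ₀ 1
  rw [← Finset.sum_filter_add_sum_filter_not Finset.univ fun l : IrrCharacter ↥S.H => (l : ↥S.H → ℂ) a' = 1,
    Finset.sum_congr rfl (g := fun _ => (mult S.H χ₀ lp : ℂ)) (fun l hl => by
      rw [linear_one, mul_one, hconst l lp ((Finset.mem_filter.1 hl).2.trans (Finset.mem_filter.1 hlp).2.symm)]),
    Finset.sum_congr (s₁ := N) rfl (g := fun _ => (mult S.H χ₀ ln : ℂ)) (fun l hl => by
      rw [linear_one, mul_one, hconst l ln ((hv l hl).trans (hv ln hln).symm)]),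
    Finset.sum_const, Finset.sum_const, nsmul_eq_mul, nsmul_eq_mul, OneMemClass.coe_one, (deg_spec χ₀).1,
    hs.deg_eq χ₀ hχ₀, ← heqc, hhalf, ← mul_add] at h
  exact_mod_cast h

theorem three_rt_le (S : Sys G K) : 3 * S.rt ≤ q := by
  have h := S.rt_sq
  have : 9 ≤ S.rt := by
    by_contra h9
    have := Nat.mul_le_mul (show S.rt ≤ 8 by omega) (show S.rt ≤ 8 by omega)
    have := S.q_ge
    omega
  have := Nat.mul_le_mul_right S.rt this
  omega

/-- The lower bound for the degree. -/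
theorem degree_ge (hs : TorusSet S T x s D) (hT : S.IsBig T) (hcard : Nat.card ↥T = q + S.rt + 1) :
    S.rt * (q - 1) * (q - S.rt + 1) ≤ D := by
  classical
  have hq := S.q_ge
  have hk : 6 ≤ s.card := by
    have := hs.card
    have := S.rt_sq
    have : 9 ≤ S.rt := by
      by_contra h9
      have := Nat.mul_le_mul (show S.rt ≤ 8 by omega) (show S.rt ≤ 8 by omega)
      omega
    omega
  obtain ⟨T₁, T₂, h₁, h₂, e₁, e₂, hp, -, -⟩ := S.exists_two
  have hco : (Nat.card ↥T₁).Coprime (Nat.card ↥T) := by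
    refine Nat.coprime_of_dvd fun p hp' hd1 hd2 => ?_
    obtain ⟨g, hg⟩ := S.big_conj_of_prime h₁ hT hp' hd1 hd2
    have : Nat.card ↥T = Nat.card ↥T₁ :=
      (congrArg (fun Y : Subgroup G => Nat.card ↥Y) hg).trans
        (Subgroup.card_map_of_injective (f := (MulAut.conj g).toMonoidHom) (MulAut.conj g).injective)
    have := S.rt_lt
    have : 0 < S.rt := pow_pos (by norm_num) _
    omega
  have hd1 := dvd_small_torus hs h₁ hco hk
  have hd2 := dvd_half hs hT hk
  have hcop : ((q - 1) / 2).Coprime (Nat.card ↥T₁) :=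
    (big_facts_card h₁).2.1.symm.coprime_dvd_left (Nat.div_dvd_of_dvd (by have := S.q_mod_eight; omega))
  have hdiv : (q - 1) / 2 * (q - S.rt + 1) ∣ D := e₁ ▸ hcop.mul_dvd_of_dvd_of_dvd hd2 hd1
  obtain ⟨χ₀, hχ₀⟩ := Finset.card_pos.1 (show 0 < s.card by omega)
  obtain ⟨ε, b, hε, hb⟩ := hs.residue
  have h := @degree_lower_bound _ S.rt (D : ℤ) ε b S.rt_sq hq (three_rt_le S)
    (Nat.odd_iff.1 S.odd_q) hε (by exact_mod_cast hs.deg_eq χ₀ hχ₀ ▸ (deg_spec χ₀).2.1)
    (hcard ▸ (big_facts_card hT).2.2) (by rw [hb, hcard]) (by exact_mod_cast hdiv)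
  exact_mod_cast h

/-- An element of a torus of order `q + r + 1` squares onto the elements of order three. -/
theorem wt_ne_zero_three (hd : DegBound S) (hT : S.IsBig T) (hcard : Nat.card ↥T = q + S.rt + 1) (hx : x ∈ T)
    (hx1 : x ≠ 1) {z : G} (hz : z ∈ S.U) (hz1 : z ≠ 1)
    (hzC : Nat.card ↥(centralizer ({z} : Set G)) ≤ q ^ 3) : wt x z ≠ 0 := by
  classical
  have hq := S.q_ge
  have hxC := S.big_centralizer hT hx hx1
  obtain ⟨t, -, -, ht⟩ := big_inverted S hT
  have hreal : IsConj x x⁻¹ := isConj_iff.2 ⟨t, ht x hx⟩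
  obtain ⟨s, D, hs⟩ := exists_torusSet hT hcard hx hx1
  have hD := degree_ge hs hT hcard
  set c := Nat.card ↥T with hc
  set others := (((Finset.univ : Finset (IrrCharacter G)) \ s).erase (Chars.trivialIrr G)).erase (St S) with hothers
  have hsplit : ∀ F : IrrCharacter G → ℝ, ∑ χ, F χ =
      ∑ χ ∈ s, F χ + (F (Chars.trivialIrr G) + (F (St S) + ∑ χ ∈ others, F χ)) := by
    intro F
    rw [hothers, Finset.add_sum_erase _ _ (Finset.mem_erase.2 ⟨St_ne_trivial S, by simp [hs.steinberg]⟩),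
      Finset.add_sum_erase _ _ (by simp [hs.triv]), add_comm, Finset.sum_sdiff (Finset.subset_univ s)]
  have hv1 : val x (Chars.trivialIrr G) = 1 := by simp [val, Chars.trivialIrr]
  have hvS : val x (St S) = -1 := by simp [val, St_big S hT hx hx1]
  have hoth : ∑ χ ∈ others, val x χ ^ 2 = 4 := by
    have h := hs.others
    rw [hsplit, hv1, hvS] at h
    linear_combination h
  -- the common value at `z`
  have hzoff : ∀ g : G, g⁻¹ * z * g ∈ T → g⁻¹ * z * g = 1 := fun g h => off_of_coprime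
    (((big_facts_card hT).2.2.coprime_dvd_right (show 3 ∣ 6 by norm_num)).symm.pow_left 2 |>.coprime_dvd_left
      (S.mem_U_of_pow hz)) g h
  have hk : 0 < s.card := by
    have := hs.card; omega
  obtain ⟨χ₀, hχ₀⟩ := Finset.card_pos.1 hk
  have hE : ∀ χ ∈ s, ‖(χ : G → ℂ) z‖ = ‖(χ₀ : G → ℂ) z‖ := fun χ hχ => by rw [hs.off_eq z hzoff χ hχ χ₀ hχ₀]
  have hSz : ‖(St S : G → ℂ) z‖ = 0 := by rw [St_U S hz hz1, norm_zero]
  set u := ((c : ℝ) - 6) / ((s.card : ℝ) * D)
  set w : IrrCharacter G → ℝ := fun χ => if χ ∈ s then u else val x χ ^ 2 / deg χ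
  have hw : ∀ χ ∈ others, χ ∉ s := fun χ hχ =>
    (Finset.mem_sdiff.1 (Finset.mem_of_mem_erase (Finset.mem_of_mem_erase hχ))).2
  have hdisj : Disjoint s others := Finset.disjoint_right.2 hw
  have hmain : |wt x z - 1| ≤ ∑ χ ∈ s ∪ others, w χ * ‖(χ : G → ℂ) z‖ := by
    refine (norm_cnt_sub_le hreal z).trans (le_of_eq ?_)
    rw [Finset.sum_erase_eq_sub (Finset.mem_univ _), hsplit, hSz, mul_zero, zero_add, Finset.sum_union hdisj]
    rw [Finset.sum_congr (s₁ := others) rfl (g := fun χ => val x χ ^ 2 / deg χ * ‖(χ : G → ℂ) z‖)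
      (f := fun χ => w χ * _) (fun χ hχ => by simp only [w, if_neg (hw χ hχ)])]
    rw [Finset.sum_congr (s₁ := s) rfl (g := fun χ => val x χ ^ 2 * ((D : ℝ)⁻¹ * ‖(χ₀ : G → ℂ) z‖))
        (f := fun χ => val x χ ^ 2 / deg χ * _) (fun χ hχ => by rw [hs.deg_eq χ hχ, hE χ hχ]; ring),
      Finset.sum_congr (s₁ := s) rfl (g := fun _ => u * ‖(χ₀ : G → ℂ) z‖)
        (f := fun χ => w χ * _) (fun χ hχ => by simp only [w, if_pos hχ, hE χ hχ]),
      ← Finset.sum_mul, hs.sum_sq, ← hc, Finset.sum_const, nsmul_eq_mul]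
    have hk' : (s.card : ℝ) ≠ 0 := by exact_mod_cast hk.ne'
    have hu : (s.card : ℝ) * u = ((c : ℝ) - 6) * (D : ℝ)⁻¹ := by
      simp only [u]
      field_simp
    linear_combination (-‖(χ₀ : G → ℂ) z‖) * hu
  have hsq : (wt x z - 1) ^ 2 ≤ (∑ χ ∈ s ∪ others, w χ ^ 2) * (q : ℝ) ^ 3 := by
    refine (show (wt x z - 1) ^ 2 ≤ (∑ χ ∈ s ∪ others, w χ * ‖(χ : G → ℂ) z‖) ^ 2 by
      rw [← sq_abs]; gcongr).trans ((sq_sum_norm_le z _ w).trans ?_)
    gcongr
    exact_mod_cast hzC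
  have hd0 : (q : ℝ) * ((q : ℝ) - 1) ≤ ((q ^ 2 - q + 1 : ℕ) : ℝ) := by
    rw [Nat.cast_add, Nat.cast_sub (Nat.le_self_pow (by norm_num) q)]
    push_cast
    linarith
  have hqR : (27 : ℝ) ≤ q := by exact_mod_cast hq
  have hwo : ∑ χ ∈ others, w χ ^ 2 ≤ 16 / ((q : ℝ) * ((q : ℝ) - 1)) ^ 2 := by
    rw [Finset.sum_congr rfl (g := fun χ => (val x χ ^ 2 / deg χ) ^ 2) fun χ hχ => by simp only [w, if_neg (hw χ hχ)]]
    refine (Finset.sum_sq_le_sq_sum_of_nonneg fun χ _ => by positivity).trans ?_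
    have h1 : ∑ χ ∈ others, val x χ ^ 2 / deg χ ≤ 4 / ((q : ℝ) * ((q : ℝ) - 1)) := by
      rw [← hoth, Finset.sum_div]
      refine Finset.sum_le_sum fun χ hχ => ?_
      have hχ1 : χ ≠ Chars.trivialIrr G := Finset.ne_of_mem_erase (Finset.mem_of_mem_erase hχ)
      have hdχ : (((q ^ 2 - q + 1 : ℕ) : ℝ)) ≤ deg χ := by exact_mod_cast le_deg S hd hχ1
      exact div_le_div_of_nonneg_left (sq_nonneg _) (mul_pos (by linarith) (by linarith)) (hd0.trans hdχ)
    refine (pow_le_pow_left₀ (Finset.sum_nonneg fun χ _ => by positivity) h1 2).trans (le_of_eq ?_)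
    rw [div_pow]
    norm_num
  have hDR : (2 / 3 : ℝ) * (S.rt * ((q : ℝ) - 1) * q) ≤ D := by
    have h : ((S.rt * (q - 1) * (q - S.rt + 1) : ℕ) : ℝ) ≤ (D : ℝ) := by exact_mod_cast hD
    have h3 : (3 : ℝ) * S.rt ≤ q := by exact_mod_cast three_rt_le S
    rw [Nat.cast_mul, Nat.cast_mul, Nat.cast_add, Nat.cast_sub (show 1 ≤ q by omega), Nat.cast_sub S.rt_lt.le, Nat.cast_one] at h
    refine le_trans ?_ h
    have hp : (0 : ℝ) ≤ S.rt * ((q : ℝ) - 1) := mul_nonneg (Nat.cast_nonneg _) (by linarith)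
    nlinarith
  have hws : ∑ χ ∈ s, w χ ^ 2 ≤ 6 * (2 * (q : ℝ)) / ((2 / 3 : ℝ) * (S.rt * ((q : ℝ) - 1) * q)) ^ 2 := by
    rw [Finset.sum_congr rfl (g := fun _ => u ^ 2) fun χ hχ => by simp only [w, if_pos hχ], Finset.sum_const,
      nsmul_eq_mul]
    have hk' : (6 : ℝ) * s.card + 1 = c := by exact_mod_cast hs.card
    have hc2 : (c : ℝ) ≤ 2 * q := by
      have : c ≤ 2 * q := by rw [hcard]; have := S.rt_lt; omega
      exact_mod_cast this
    have hk0 : (0 : ℝ) < s.card := by exact_mod_cast hk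
    have hrt : (0 : ℝ) < S.rt := by exact_mod_cast pow_pos (show 0 < 3 by norm_num) (S.m + 1)
    have hlow : (0 : ℝ) < (2 / 3 : ℝ) * (S.rt * ((q : ℝ) - 1) * q) :=
      mul_pos (by norm_num) (mul_pos (mul_pos hrt (by linarith)) (by linarith))
    have hD0 : (0 : ℝ) < D := lt_of_lt_of_le hlow hDR
    have hc6 : (6 : ℝ) ≤ c := by
      have : 6 ≤ c := by omega
      exact_mod_cast this
    have e : (s.card : ℝ) * u ^ 2 = ((c : ℝ) - 6) ^ 2 / s.card / (D : ℝ) ^ 2 := by
      simp only [u]; field_simp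
    rw [e]
    have h1 : ((c : ℝ) - 6) ^ 2 / s.card ≤ 6 * (2 * q) := by
      rw [div_le_iff₀ hk0]
      nlinarith
    exact div_le_div₀ (by positivity) h1 (pow_pos hlow 2) (pow_le_pow_left₀ hlow.le hDR 2)
  rw [Finset.sum_union hdisj] at hsq
  have hrR : (S.rt : ℝ) * S.rt = 3 * q := by exact_mod_cast S.rt_sq
  have hlt : (wt x z - 1) ^ 2 < 1 := by
    refine hsq.trans_lt ?_
    refine (mul_le_mul_of_nonneg_right (add_le_add hws hwo) (by positivity)).trans_lt ?_
    have e : (6 * (2 * (q : ℝ)) / ((2 / 3 : ℝ) * (S.rt * ((q : ℝ) - 1) * q)) ^ 2 +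
        16 / ((q : ℝ) * ((q : ℝ) - 1)) ^ 2) * (q : ℝ) ^ 3 = 25 * q / ((q : ℝ) - 1) ^ 2 := by
      rw [show ((2 / 3 : ℝ) * (S.rt * ((q : ℝ) - 1) * q)) ^ 2 = 4 / 9 * ((S.rt : ℝ) * S.rt) * ((q : ℝ) - 1) ^ 2 * (q : ℝ) ^ 2
        by ring, hrR]
      have h0 : (q : ℝ) ≠ 0 := by linarith
      have h1 : (q : ℝ) - 1 ≠ 0 := by linarith
      field_simp
      ring
    rw [e, div_lt_one (by nlinarith)]
    nlinarith
  intro h0
  rw [h0] at hlt
  norm_num at hlt

end Cfsg.Agent.Lib.Ree.ClassSquare
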