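import Cfsg.Agent.Lib.Ree.ClassSquare.Gow
import Cfsg.Agent.Lib.Ree.ClassSquare.TorusBound

/-!
The square of the class of an element of order above two and prime to three covers the nontrivial elements.
-/

set_option autoImplicit false
set_option linter.unusedSectionVars false

namespace Cfsg.Agent.Lib.Ree.ClassSquare

open Cfsg Cfsg.Agent.Lib Subgroup
open Cfsg.Agent.Lib.Ree.Tori
open scoped ComplexConjugate

universe u

variable {G : Type u} [Group G] [Fintype G] {K : Type*} [Field K] [Fintype K]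

local notation "q" => Fintype.card K

variable {S : Sys G K}

theorem wt_conj (x g k : G) : wt x (k * g * k⁻¹) = wt x g := by
  have h := cnt_conj x g k
  rw [cnt_eq_wt, cnt_eq_wt] at h
  exact_mod_cast h

theorem wt_isConj {x g h : G} (hc : IsConj g h) : wt x h = wt x g := by
  obtain ⟨k, rfl⟩ := isConj_iff.1 hc
  exact wt_conj x g k

theorem exists_of_wt_ne_zero {x g : G} (h : wt x g ≠ 0) :
    ∃ u v : G, g = u * x * u⁻¹ * (v * x * v⁻¹) :=
  exists_of_cnt_ne_zero (by rw [cnt_eq_wt]; exact_mod_cast h)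

theorem wt_one {x : G} (hx : IsConj x x⁻¹) :
    wt x 1 = (Nat.card ↥(centralizer ({x} : Set G)) : ℝ) := by
  have h := cnt_one hx
  rw [cnt_eq_wt] at h
  exact_mod_cast h

/-- A small centraliser. -/
theorem wt_ne_zero_of_small (hd : DegBound S) {x z : G} (hs : Semis S x)
    (hz : Nat.card ↥(centralizer ({z} : Set G)) ≤ 3 * q) : wt x z ≠ 0 := by
  intro h0
  have h := sq_wt_sub_one_le hs.real z (D := q ^ 2 - q + 1) (Nat.succ_pos _) fun χ hχ => le_deg S hd hχ
  rw [h0] at h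
  norm_num at h
  have hd0 : (q : ℝ) * ((q : ℝ) - 1) ≤ ((q ^ 2 - q : ℕ) : ℝ) + 1 := by
    rw [Nat.cast_sub (Nat.le_self_pow (by norm_num) q)]
    push_cast
    linarith
  have hc : (Nat.card ↥(centralizer ({x} : Set G)) : ℝ) ≤ 2 * q := by exact_mod_cast hs.le
  have hz' : (Nat.card ↥(centralizer ({z} : Set G)) : ℝ) ≤ 3 * q := by exact_mod_cast hz
  have hq : (27 : ℝ) ≤ q := by exact_mod_cast S.q_ge
  have h1 : ((q : ℝ) * ((q : ℝ) - 1)) ^ 2 ≤ (2 * (q : ℝ)) ^ 2 * (3 * q) := by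
    refine ((pow_le_pow_left₀ (by nlinarith) hd0 2).trans ?_).trans
      (mul_le_mul (pow_le_pow_left₀ (Nat.cast_nonneg _) hc 2) hz' (Nat.cast_nonneg _) (sq_nonneg _))
    exact h
  have h2 : (q : ℝ) ^ 2 * (((q : ℝ) - 1) ^ 2 - 12 * q) ≤ 0 := by linarith
  have h3 : (0 : ℝ) < (q : ℝ) ^ 2 * (((q : ℝ) - 1) ^ 2 - 12 * q) := mul_pos (by positivity) (by nlinarith)
  linarith

theorem card_centralizer_le_of_semis {z : G} (hs : Semis S z) : Nat.card ↥(centralizer ({z} : Set G)) ≤ 3 * q :=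
  hs.le.trans (Nat.mul_le_mul_right _ (by norm_num))

theorem orderOf_invGrp (hc : Cubes S) {y : G} (hy : y ∈ invGrp hc) : orderOf y ∣ 3 :=
  orderOf_dvd_of_pow_eq_one hy.1.2

theorem not_isConj_of_three {x v : G} (h2 : 2 < orderOf x) (h3 : ¬ 3 ∣ orderOf x) (hv : orderOf v ∣ 3) :
    ¬ IsConj v x := by
  rintro h
  obtain ⟨k, rfl⟩ := isConj_iff.1 h
  rw [orderOf_conj'] at h2 h3
  rcases (Nat.dvd_prime Nat.prime_three).1 hv with e | e
  · omega
  · exact h3 e.symm.dvd

/-- The argument for a small centraliser of `x`. -/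
theorem false_of_subgroup {x : G} (hs : Semis S x) (hx2 : 2 < orderOf x) (hx3 : ¬ 3 ∣ orderOf x)
    (hle : Nat.card ↥(centralizer ({x} : Set G)) ≤ q + 1) (V : Subgroup G) (hV : Nat.card ↥V = q)
    (hVU : ∀ v ∈ V, v ∈ S.U ∧ orderOf v ∣ 3) (h0 : ∀ v ∈ V, v ≠ 1 → wt x v = 0) : False := by
  classical
  haveI : Fintype ↥V := Fintype.ofFinite _
  have hq := S.q_ge
  have hqR : (27 : ℝ) ≤ q := by exact_mod_cast hq
  have h := sum_wt_subgroup hs.real V
  rw [Finset.sum_eq_single (1 : ↥V) (fun v _ hv => h0 v v.2 fun e => hv (Subtype.ext e))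
    (fun hh => absurd (Finset.mem_univ _) hh), OneMemClass.coe_one, wt_one hs.real, hV] at h
  have hmS : fixMult V (St S) = q ^ 2 := by
    have hm := fixMult_spec V (St S)
    rw [Finset.sum_eq_single (1 : ↥V) (fun v _ hv => St_U S (hVU v v.2).1 fun e => hv (Subtype.ext e))
      (fun hh => absurd (Finset.mem_univ _) hh), OneMemClass.coe_one, St_one, hV] at hm
    have h' : q * q ^ 2 = q * fixMult V (St S) := by
      have : ((q * q ^ 2 : ℕ) : ℂ) = ((q * fixMult V (St S) : ℕ) : ℂ) := by push_cast; rw [← hm]; ring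
      exact_mod_cast this
    exact (Nat.eq_of_mul_eq_mul_left (by omega) h').symm
  have hmT : fixMult V (Chars.trivialIrr G) = 1 := by
    have hm := fixMult_spec V (Chars.trivialIrr G)
    simp only [Chars.trivialIrr, Finset.sum_const, Finset.card_univ, nsmul_one, ← Nat.card_eq_fintype_card (α := ↥V), hV] at hm
    have : q * 1 = q * fixMult V (Chars.trivialIrr G) := by
      rw [mul_one]; exact_mod_cast hm
    exact (Nat.eq_of_mul_eq_mul_left (by omega) this).symm
  have hv1 : val x (Chars.trivialIrr G) = 1 := by simp [val, Chars.trivialIrr]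
  have hvS : val x (St S) = 1 ∨ val x (St S) = -1 := by
    rcases hs.sq with e | e <;> simp [val, e]
  have hvS2 : val x (St S) ^ 2 = 1 := by rcases hvS with e | e <;> rw [e] <;> norm_num
  have hdT : deg (Chars.trivialIrr G) = 1 := by simp [deg, charDegree, Chars.trivialIrr]
  set R := ((Finset.univ : Finset (IrrCharacter G)).erase (Chars.trivialIrr G)).erase (St S)
  have hsplit : ∀ F : IrrCharacter G → ℝ, ∑ χ, F χ = F (Chars.trivialIrr G) + (F (St S) + ∑ χ ∈ R, F χ) := by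
    intro F
    rw [Finset.add_sum_erase _ _ (Finset.mem_erase.2 ⟨St_ne_trivial S, Finset.mem_univ _⟩),
      Finset.add_sum_erase _ _ (Finset.mem_univ _)]
  rw [hsplit, hv1, hvS2, hmT, hmS, hdT, deg_St] at h
  set Q := ∑ χ ∈ R, val x χ ^ 2 * (fixMult V χ : ℝ) / deg χ with hQ
  have hQ0 : 0 ≤ Q := Finset.sum_nonneg fun χ _ => by positivity
  have hc : (Nat.card ↥(centralizer ({x} : Set G)) : ℝ) ≤ q + 1 := by exact_mod_cast hle
  have e : (q : ℝ) * (((1 : ℝ) ^ 2 * (1 : ℕ) / (1 : ℕ)) + (1 * ((q ^ 2 : ℕ) : ℝ) / ((q ^ 3 : ℕ) : ℝ) + Q)) =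
      q + 1 + q * Q := by
    push_cast
    field_simp
    ring
  rw [e] at h
  have hQz : Q = 0 := by
    have : (q : ℝ) * Q = 0 := le_antisymm (by linarith) (mul_nonneg (by linarith) hQ0)
    exact (mul_eq_zero.1 this).resolve_left (by linarith)
  have hzero : ∀ χ ∈ R, val x χ * (fixMult V χ : ℝ) = 0 := fun χ hχ => by
    have h1 := (Finset.sum_eq_zero_iff_of_nonneg fun χ _ => by positivity).1 (hQ ▸ hQz) χ hχ
    rcases div_eq_zero_iff.1 h1 with h2 | h2
    · rcases mul_eq_zero.1 h2 with h3 | h3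
      · rw [pow_eq_zero_iff two_ne_zero |>.1 h3, zero_mul]
      · rw [h3, mul_zero]
    · exact absurd h2 (Nat.cast_ne_zero.2 (deg_spec χ).2.1.ne')
  have horth := sum_val_fixMult hs.real V fun v hv => not_isConj_of_three hx2 hx3 (hVU v hv).2
  rw [hsplit, hv1, hmT, hmS, Finset.sum_eq_zero hzero] at horth
  push_cast at horth
  rcases hvS with e' | e' <;> rw [e'] at horth <;> nlinarith

/-- Order three, big torus, an element fixed by `a`. -/
theorem false_of_big (hc : Cubes S) (hd : DegBound S) {x : G} (hs : Semis S x)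
    (hT : ∀ v ∈ cubeGrp hc, v ∉ invGrp hc → wt x v = 0) : False := by
  classical
  haveI : Fintype ↥(cubeGrp hc) := Fintype.ofFinite _
  have hq := S.q_ge
  have hqR : (27 : ℝ) ≤ q := by exact_mod_cast hq
  obtain ⟨z₀, hz₀⟩ : ∃ z : ↥(invGrp hc), z ≠ 1 := by
    have : Nontrivial ↥(invGrp hc) := Finite.one_lt_card_iff_nontrivial.1 (by rw [card_invGrp hc]; omega)
    exact exists_ne 1
  have hz₀' : (z₀ : G) ≠ 1 := fun e => hz₀ (Subtype.ext e)
  set w := wt x z₀
  have hwc : ∀ v : ↥(cubeGrp hc), v ≠ 1 → (v : G) ∈ invGrp hc → wt x v = w := fun v hv hvZ =>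
    wt_isConj (invGrp_transitive hc z₀.2 hz₀' hvZ fun e => hv (Subtype.ext e))
  have hsum : ∑ v : ↥(cubeGrp hc), wt x v = (Nat.card ↥(centralizer ({x} : Set G)) : ℝ) + ((q : ℝ) - 1) * w := by
    rw [← Finset.add_sum_erase _ _ (Finset.mem_univ (1 : ↥(cubeGrp hc))), OneMemClass.coe_one, wt_one hs.real]
    congr 1
    rw [← Finset.sum_filter_add_sum_filter_not _ fun v : ↥(cubeGrp hc) => (v : G) ∈ invGrp hc,
      Finset.sum_congr rfl (g := fun _ => w) (fun v hv =>
        hwc v (Finset.ne_of_mem_erase (Finset.mem_filter.1 hv).1) (Finset.mem_filter.1 hv).2),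
      Finset.sum_eq_zero (s := Finset.filter (fun v : ↥(cubeGrp hc) => ¬ (v : G) ∈ invGrp hc) _)
        (fun v hv => hT v v.2 (Finset.mem_filter.1 hv).2),
      add_zero, Finset.sum_const, nsmul_eq_mul]
    congr 1
    have hcard : (Finset.univ.filter fun v : ↥(cubeGrp hc) => (v : G) ∈ invGrp hc).card = q := by
      rw [← Fintype.card_subtype, ← Nat.card_eq_fintype_card, ← card_invGrp hc]
      exact Nat.card_congr
        { toFun := fun v => ⟨v.1, v.2⟩, invFun := fun v => ⟨⟨v, invGrp_le hc v.2⟩, v.2⟩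
          left_inv := fun _ => rfl, right_inv := fun _ => rfl }
    rw [Finset.filter_erase, Finset.card_erase_of_mem, hcard, Nat.cast_sub (show 1 ≤ q by omega), Nat.cast_one]
    exact Finset.mem_filter.2 ⟨Finset.mem_univ _, one_mem _⟩
  have hge : ((q : ℝ)) ^ 2 ≤ ∑ v : ↥(cubeGrp hc), wt x v := by
    rw [sum_wt_subgroup hs.real, card_cubeGrp hc]
    have hmT : fixMult (cubeGrp hc) (Chars.trivialIrr G) = 1 := by
      have hm := fixMult_spec (cubeGrp hc) (Chars.trivialIrr G)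
      simp only [Chars.trivialIrr, Finset.sum_const, Finset.card_univ, nsmul_one, ← Nat.card_eq_fintype_card (α := ↥(cubeGrp hc)),
        card_cubeGrp hc] at hm
      have : q ^ 2 * 1 = q ^ 2 * fixMult (cubeGrp hc) (Chars.trivialIrr G) := by
        rw [mul_one]; exact_mod_cast hm
      exact (Nat.eq_of_mul_eq_mul_left (pow_pos (by omega) 2) this).symm
    have h1 : (1 : ℝ) ≤ ∑ χ : IrrCharacter G, val x χ ^ 2 * (fixMult (cubeGrp hc) χ : ℝ) / deg χ := by
      refine le_trans (le_of_eq ?_) (Finset.single_le_sum (fun χ _ => by positivity)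
        (Finset.mem_univ (Chars.trivialIrr G)))
      rw [hmT]
      simp [val, deg, charDegree, Chars.trivialIrr]
    push_cast
    exact le_mul_of_one_le_right (by positivity) h1
  have hbound := sq_wt_sub_one_le hs.real (z₀ : G) (D := q ^ 2 - q + 1) (Nat.succ_pos _) fun χ hχ => le_deg S hd hχ
  have hcz : (Nat.card ↥(centralizer ({(z₀ : G)} : Set G)) : ℝ) ≤ (q : ℝ) ^ 3 := by
    exact_mod_cast card_centralizer_invGrp hc z₀.2 hz₀'
  have hc2 : (Nat.card ↥(centralizer ({x} : Set G)) : ℝ) ≤ 2 * q := by exact_mod_cast hs.le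
  have hd0 : (q : ℝ) * ((q : ℝ) - 1) ≤ ((q ^ 2 - q + 1 : ℕ) : ℝ) := by
    rw [Nat.cast_add, Nat.cast_sub (Nat.le_self_pow (by norm_num) q)]
    push_cast
    linarith
  have hw : (q : ℝ) - 3 ≤ w - 1 := by
    rw [hsum] at hge
    by_contra hlt
    push Not at hlt
    nlinarith
  have h1 : ((q : ℝ) - 3) ^ 2 * ((q : ℝ) * ((q : ℝ) - 1)) ^ 2 ≤ (2 * (q : ℝ)) ^ 2 * (q : ℝ) ^ 3 := by
    refine le_trans (mul_le_mul (pow_le_pow_left₀ (by linarith) hw 2) (pow_le_pow_left₀ (by nlinarith) hd0 2)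
      (sq_nonneg _) (sq_nonneg _)) (hbound.trans ?_)
    exact mul_le_mul (pow_le_pow_left₀ (Nat.cast_nonneg _) hc2 2) hcz (Nat.cast_nonneg _) (sq_nonneg _)
  have h2 : (0 : ℝ) ≤ (q : ℝ) ^ 2 := by positivity
  have h3 : 4 * (q : ℝ) ^ 3 < ((q : ℝ) - 3) ^ 2 * ((q : ℝ) - 1) ^ 2 := by
    have : 2 * (q : ℝ) * q < ((q : ℝ) - 3) * ((q : ℝ) - 1) * ((q : ℝ) - 1) := by nlinarith
    have h4 : ((q : ℝ) - 3) * 2 * q ≤ ((q : ℝ) - 3) * ((q : ℝ) - 1) * ((q : ℝ) - 3) := by nlinarith
    nlinarith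
  nlinarith [mul_lt_mul_of_pos_left h3 (show (0 : ℝ) < (q : ℝ) ^ 2 by positivity)]

/-- The covering theorem for an abstract small Ree group. -/
theorem covers (hc : Cubes S) (hd : DegBound S) {x : G} (h2 : 2 < orderOf x) (h3 : ¬ 3 ∣ orderOf x) {g : G}
    (hg : g ≠ 1) : ∃ u v : G, g = u * x * u⁻¹ * (v * x * v⁻¹) := by
  have hs := semis S h2 h3
  refine exists_of_wt_ne_zero ?_
  have ho1 : orderOf g ≠ 1 := fun e => hg (orderOf_eq_one_iff.1 e)
  have hopos := orderOf_pos g
  by_cases hg2 : orderOf g = 2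
  · obtain ⟨k, rfl⟩ := S.exists_conj_a hg (by rw [← pow_two, ← hg2]; exact pow_orderOf_eq_one g)
    rw [wt_conj]
    intro h0
    refine cnt_a_ne_zero hc hd hs.real hs.sq ?_
    rw [cnt_eq_wt, h0, Complex.ofReal_zero]
  by_cases hg3 : 3 ∣ orderOf g
  · have hor : orderOf g = 3 ∨ orderOf g = 6 ∨ orderOf g = 9 := by
      obtain ⟨k, y, ⟨hy, hy3⟩, rfl⟩ := S.mem_conjs_YB.2 hg3
      rw [orderOf_conj']
      exact S.order_three_B hy hy3
    rcases hor with h | h | h
    swap
    · exact wt_ne_zero_of_small hd hs (card_centralizer_six hc h)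
    swap
    · exact wt_ne_zero_of_small hd hs (card_centralizer_nine hc h)
    rcases hs.shape with hle | ⟨T, hT, hxT, hcard⟩
    · rcases three_cases hc h with ⟨y, hy, hy1, hyg⟩ | ⟨y, hy, hy1, hyg⟩
      · intro h0
        rw [wt_isConj hyg] at h0
        exact false_of_subgroup hs h2 h3 hle (invGrp hc) (card_invGrp hc)
          (fun v hv => ⟨hv.1.1, orderOf_invGrp hc hv⟩)
          fun v hv hv1 => (wt_isConj (invGrp_transitive hc hy hy1 hv hv1)).trans h0
      · intro h0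
        rw [wt_isConj hyg] at h0
        refine false_of_subgroup hs h2 h3 hle S.CU S.card_CU
          (fun v hv => ⟨S.CU_U hv, orderOf_dvd_of_pow_eq_one (CU_le_cubeGrp hc hv).2⟩) fun v hv hv1 => ?_
        rcases CU_cases hy hy1 hv hv1 with e | e
        · exact (wt_isConj e).trans h0
        · rw [wt_isConj e, wt_inv hs.real, h0]
    · classical
      haveI : Fintype ↥T := Fintype.ofFinite _
      have hx1 : x ≠ 1 := fun e => by rw [e, orderOf_one] at h2; omega
      rcases three_cases hc h with ⟨y, hy, hy1, hyg⟩ | ⟨y, hy, hy1, hyg⟩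
      · rw [wt_isConj hyg]
        exact wt_ne_zero_three hd hT hcard hxT hx1 hy.1.1 hy1 (card_centralizer_invGrp hc hy hy1)
      · intro h0
        rw [wt_isConj hyg] at h0
        refine false_of_big hc hd hs fun v hv hvZ => ?_
        obtain ⟨k, -, hk⟩ := hc.conj_CU v hv.1 hv.2 fun e => hvZ ⟨hv, e⟩
        have hv1 : k * v * k⁻¹ ≠ 1 := fun e => hvZ (by rw [conj_eq_one_iff.1 e]; exact one_mem _)
        rw [← wt_conj x v k]
        rcases CU_cases hy hy1 hk hv1 with e | e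
        · exact (wt_isConj e).trans h0
        · rw [wt_isConj e, wt_inv hs.real, h0]
  · exact wt_ne_zero_of_small hd hs (card_centralizer_le_of_semis (semis S (by omega) hg3))

end Cfsg.Agent.Lib.Ree.ClassSquare
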