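import Cfsg.Agent.Lib.Ree.ClassSquare.Steinberg
import Cfsg.Agent.Lib.CharCount.InvertingInvolution

/-!
Elements of order above two and prime to three in a small Ree group.
-/

set_option autoImplicit false

namespace Cfsg.Agent.Lib.Ree.ClassSquare

open Cfsg Cfsg.Agent.Lib Subgroup
open Cfsg.Agent.Lib.Ree.Tori

universe u

variable {G : Type u} [Group G] [Fintype G] {K : Type*} [Field K] [Fintype K]

local notation "q" => Fintype.card K

variable (S : Sys G K)
include S

theorem isBig_map {T : Subgroup G} (hT : S.IsBig T) (g : G) : S.IsBig (T.map (MulAut.conj g).toMonoidHom) := by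
  obtain ⟨p, y, hp, hd, hy, rfl⟩ := hT
  exact ⟨p, g * y * g⁻¹, hp, hd, by rw [orderOf_conj', hy], (centralizer_conj g y).symm⟩

theorem card_normalizer_big {T : Subgroup G} (hT : S.IsBig T) :
    Nat.card ↥(normalizer (T : Set G)) = 6 * Nat.card ↥T := by
  obtain ⟨T₁, T₂, h₁, h₂, e₁, e₂, hp, n₁, n₂⟩ := S.exists_two
  obtain ⟨r, hr, hrT⟩ := Nat.exists_prime_and_dvd (show Nat.card ↥T ≠ 1 by have := S.big_one_lt hT; omega)
  have key : ∀ {T₀ : Subgroup G}, S.IsBig T₀ → r ∣ Nat.card ↥T₀ →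
      Nat.card ↥(normalizer (T₀ : Set G)) = 6 * Nat.card ↥T₀ →
      Nat.card ↥(normalizer (T : Set G)) = 6 * Nat.card ↥T := by
    intro T₀ h0 hr0 hn
    obtain ⟨g, rfl⟩ := S.big_conj_of_prime h0 hT hr hr0 hrT
    rw [← Subgroup.map_equiv_normalizer_eq, Subgroup.card_map_of_injective (MulAut.conj g).injective,
      Subgroup.card_map_of_injective (MulAut.conj g).injective, hn]
  rcases hr.dvd_mul.1 (hp ▸ hrT.trans (S.big_dvd hT)) with h | h
  exacts [key h₁ h n₁, key h₂ h n₂]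

theorem odd_card_big {T : Subgroup G} (hT : S.IsBig T) : Odd (Nat.card ↥T) := S.odd_big.of_dvd_nat (S.big_dvd hT)

/-- An involution of the normaliser inverts a big torus. -/
theorem big_inverted {T : Subgroup G} (hT : S.IsBig T) :
    ∃ t ∈ normalizer (T : Set G), t ∉ T ∧ ∀ y ∈ T, t * y * t⁻¹ = y⁻¹ := by
  have : Fact (Nat.Prime 2) := ⟨Nat.prime_two⟩
  obtain ⟨t, ht⟩ := exists_prime_orderOf_dvd_card' (G := ↥(normalizer (T : Set G))) 2
    (by rw [card_normalizer_big S hT]; exact dvd_mul_of_dvd_left (by norm_num) _)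
  have ht2 : orderOf (t : G) = 2 := by rw [Subgroup.orderOf_coe]; exact ht
  have hT2 : (t : G) ∉ T := fun h =>
    (odd_card_big S hT).not_two_dvd_nat (ht2 ▸ Subgroup.orderOf_dvd_natCard _ h)
  refine ⟨t, t.2, hT2, fun y hy => CharCount.inverts_of_fixedPointFree
    (by rw [← pow_two, ← ht2]; exact pow_orderOf_eq_one _)
    (fun a ha => (Subgroup.mem_normalizer_iff.1 t.2 a).1 ha) (fun a ha e => ?_) hy⟩
  by_contra ha1
  refine hT2 ?_
  exact (S.big_centralizer hT ha ha1).le (mem_centralizer_singleton_iff.2 (mul_inv_eq_iff_eq_mul.1 e))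

theorem isConj_inv_of_conj {x y : G} (g : G) (h : IsConj y y⁻¹) (e : g * y * g⁻¹ = x) : IsConj x x⁻¹ := by
  subst e
  rw [show (g * y * g⁻¹)⁻¹ = g * y⁻¹ * g⁻¹ by group]
  exact (isConj_iff.2 ⟨g, rfl⟩ : IsConj y (g * y * g⁻¹)).symm.trans (h.trans (isConj_iff.2 ⟨g, rfl⟩))

theorem St_conj (g y : G) : (St S : G → ℂ) (g * y * g⁻¹) = (St S : G → ℂ) y :=
  Chars.irr_isClassFunction (St S) y g

theorem coprime_B {k : ℕ} (h3 : k.Coprime q) (h1 : k.Coprime (q - 1)) : k.Coprime (Nat.card ↥S.B) := by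
  rw [S.card_B]; exact (h3.pow_right 3).mul_right h1

theorem St_big {T : Subgroup G} (hT : S.IsBig T) {y : G} (hy : y ∈ T) (hy1 : y ≠ 1) : (St S : G → ℂ) y = -1 := by
  refine St_coprime S (k := 1) (by rwa [pow_one]) ?_
  rw [pow_one]
  obtain ⟨b1, b2, -⟩ := S.big_facts
  exact coprime_B S (b1.coprime_dvd_left (S.big_order hT hy)) (b2.coprime_dvd_left (S.big_order hT hy))

/-- What is known of an element of order above two and prime to three. -/
structure Semis (x : G) : Prop where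
  real : IsConj x x⁻¹
  sq : (St S : G → ℂ) x = 1 ∨ (St S : G → ℂ) x = -1
  le : Nat.card ↥(centralizer ({x} : Set G)) ≤ 2 * q
  shape : Nat.card ↥(centralizer ({x} : Set G)) ≤ q + 1 ∨
    ∃ T : Subgroup G, S.IsBig T ∧ x ∈ T ∧ Nat.card ↥T = q + S.rt + 1

theorem semis {x : G} (h2 : 2 < orderOf x) (h3 : ¬ 3 ∣ orderOf x) : Semis S x := by
  have hq := S.q_ge
  have hx1 : x ≠ 1 := fun e => by rw [e, orderOf_one] at h2; omega
  rcases S.kinds hx1 with h | h | ⟨g, y, hy, e⟩ | ⟨g, y, hy, e⟩ | ⟨T, hT, hxT⟩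
  · omega
  · exact absurd h h3
  · have hc : Nat.card ↥(centralizer ({x} : Set G)) = q - 1 := by
      rw [← e, card_centralizer_conj, S.centralizer_H hy.1 hy.2, S.card_H]
    refine ⟨isConj_inv_of_conj S g (isConj_iff.2 ⟨S.n, S.n_inv y hy.1⟩) e, Or.inl ?_, by omega, Or.inl (by omega)⟩
    rw [← e, St_conj, St_YH S hy]
  · obtain ⟨hw, hw1⟩ := S.YA_sq hy
    have hC : centralizer ({y} : Set G) = S.A := by
      refine le_antisymm (fun u hu => ?_) fun u hu => mem_centralizer_singleton_iff.2 (S.A_comm hu hy.1).eq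
      rw [← S.centralizer_y hw hw1]
      have h : Commute u y := mem_centralizer_singleton_iff.1 hu
      exact mem_centralizer_singleton_iff.2 (h.mul_right h).eq
    have hc : Nat.card ↥(centralizer ({x} : Set G)) = q + 1 := by
      rw [← e, card_centralizer_conj, hC, S.card_A]
    refine ⟨isConj_inv_of_conj S g ?_ e, Or.inr ?_, by omega, Or.inl hc.le⟩
    · obtain ⟨s, hs, hs2, -, hinv, -⟩ := S.exists_inverting
      obtain ⟨f, hf, w, hwW, rfl⟩ := hy.1
      refine isConj_iff.2 ⟨s, ?_⟩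
      rw [show s * (f * w) * s⁻¹ = s * f * s⁻¹ * (s * w * s⁻¹) by group, hinv w hwW,
        (S.E_commute_D hf hs).symm.eq, mul_inv_cancel_right, mul_inv_rev]
      nth_rw 1 [← inv_eq_of_mul_eq_one_left (S.E_sq hf)]
      exact (S.E_commute_D (inv_mem hf) (S.W_le (inv_mem hwW))).eq
    · rw [← e, St_conj]
      refine St_coprime S (k := 2) (by rw [pow_two]; exact hw1) ?_
      rw [pow_two]
      have hd : orderOf (y * y) ∣ (q + 1) / 4 := S.card_W ▸ Subgroup.orderOf_dvd_natCard _ hw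
      exact coprime_B S (S.quarter_facts.2.2.1.coprime_dvd_left hd) (S.quarter_facts.2.2.2.coprime_dvd_left hd)
  · obtain ⟨t, -, -, ht⟩ := big_inverted S hT
    have hc := S.big_centralizer hT hxT hx1
    have hr := S.rt_lt
    refine ⟨isConj_iff.2 ⟨t, ht x hxT⟩, Or.inr (St_big S hT hxT hx1), ?_, ?_⟩
    · rw [hc]; rcases S.big_order_cases hT with h | h <;> omega
    · rw [hc]
      rcases S.big_order_cases hT with h | h
      · exact Or.inl (by omega)
      · exact Or.inr ⟨T, hT, hxT, h⟩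

end Cfsg.Agent.Lib.Ree.ClassSquare
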