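import Mathlib

/-!
Integral vectors all of whose differences have norm two and weighted sum zero.
-/

set_option autoImplicit false

namespace Cfsg.Agent.Lib.Ree.ClassSquare

variable {X : Type*} [Fintype X] [DecidableEq X]

/-- The difference of two coordinate vectors. -/
def unitDiff (p p' : X) : X → ℤ := fun x => (if x = p then 1 else 0) - (if x = p' then 1 else 0)

theorem exists_unitDiff (d : X → ℕ) (hd : ∀ x, 0 < d x) (w : X → ℤ) (hrel : ∑ x, (d x : ℤ) * w x = 0)
    (hn : ∑ x, w x * w x = 2) : ∃ p p' : X, p ≠ p' ∧ w = unitDiff p p' := by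
  classical
  have habs : ∀ x, w x = 0 ∨ w x = 1 ∨ w x = -1 := fun x => by
    have h : w x * w x ≤ 2 := hn ▸ Finset.single_le_sum (fun y _ => mul_self_nonneg (w y)) (Finset.mem_univ x)
    have h1 : w x ≤ 1 := by nlinarith
    have h2 : -1 ≤ w x := by nlinarith
    omega
  set s := Finset.univ.filter fun x => w x ≠ 0 with hs
  have hsum : ∑ x ∈ s, w x * w x = 2 := by
    rw [← hn]
    refine Finset.sum_subset (Finset.subset_univ s) fun x _ hx => ?_
    have : w x = 0 := by simpa [hs] using hx
    rw [this, mul_zero]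
  have hone : ∀ x ∈ s, w x * w x = 1 := fun x hx => by
    have hne : w x ≠ 0 := (Finset.mem_filter.1 hx).2
    rcases habs x with h | h | h
    exacts [absurd h hne, by rw [h]; rfl, by rw [h]; rfl]
  rw [Finset.sum_congr rfl hone, Finset.sum_const, nsmul_one] at hsum
  obtain ⟨p, p', hne, hpp⟩ := Finset.card_eq_two.1 (show s.card = 2 by exact_mod_cast hsum)
  have hout : ∀ x, x ≠ p → x ≠ p' → w x = 0 := fun x h1 h2 => by
    by_contra h
    have : x ∈ s := Finset.mem_filter.2 ⟨Finset.mem_univ x, h⟩
    rw [hpp, Finset.mem_insert, Finset.mem_singleton] at this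
    exact this.elim h1 h2
  have hrel' : (d p : ℤ) * w p + (d p' : ℤ) * w p' = 0 := by
    rw [← Finset.sum_pair (f := fun x => (d x : ℤ) * w x) hne, ← hrel]
    exact Finset.sum_subset (Finset.subset_univ _) fun x _ hx => by
      simp only [Finset.mem_insert, Finset.mem_singleton, not_or] at hx
      rw [hout x hx.1 hx.2, mul_zero]
  have hps : p ∈ s := by rw [hpp]; exact Finset.mem_insert_self p {p'}
  have hps' : p' ∈ s := by rw [hpp]; exact Finset.mem_insert_of_mem (Finset.mem_singleton_self p')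
  have hp : w p ≠ 0 := (Finset.mem_filter.1 hps).2
  have hp' : w p' ≠ 0 := (Finset.mem_filter.1 hps').2
  have := hd p
  have := hd p'
  have key : ∀ a b : X, a ≠ b → w a = 1 → w b = -1 → (∀ x, x ≠ a → x ≠ b → w x = 0) → w = unitDiff a b := by
    intro a b hab h1 h2 h3
    funext x
    by_cases hxa : x = a
    · subst hxa; simp [unitDiff, h1, hab]
    · by_cases hxb : x = b
      · subst hxb; simp [unitDiff, h2, hxa]
      · simp [unitDiff, hxa, hxb, h3 x hxa hxb]
  rcases habs p with h | h | h <;> rcases habs p' with h' | h' | h' <;>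
    rw [h, h'] at hrel' <;> first
      | exact absurd h hp
      | exact absurd h' hp'
      | omega
      | exact ⟨p, p', hne, key p p' hne h h' hout⟩
      | exact ⟨p', p, hne.symm, key p' p hne.symm h' h fun x a b => hout x b a⟩

theorem sum_unitDiff_mul (p p' : X) (f : X → ℤ) : ∑ x, unitDiff p p' x * f x = f p - f p' := by
  simp only [unitDiff, sub_mul, Finset.sum_sub_distrib, ite_mul, one_mul, zero_mul, Finset.sum_ite_eq',
    Finset.mem_univ, if_true]

/-- Vectors with differences of norm two and weighted sum zero differ from a common vector in one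
coordinate each. -/
theorem exists_star {ι : Type*} [Fintype ι] [DecidableEq ι] (hι : 3 ≤ Fintype.card ι) (d : X → ℕ)
    (hd : ∀ x, 0 < d x) (v : ι → X → ℤ) (hrel : ∀ i j, ∑ x, (d x : ℤ) * (v i x - v j x) = 0)
    (hn : ∀ i j, i ≠ j → ∑ x, (v i x - v j x) * (v i x - v j x) = 2) :
    ∃ (cc : ι → X) (ε : ℤ) (base : X → ℤ), Function.Injective cc ∧ (ε = 1 ∨ ε = -1) ∧
      ∀ i x, v i x = base x + (if x = cc i then ε else 0) := by
  classical
  obtain ⟨i0⟩ := Fintype.card_pos_iff.1 (show 0 < Fintype.card ι by omega)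
  have hw : ∀ j : {j : ι // j ≠ i0}, ∃ p p' : X, p ≠ p' ∧ (fun x => v j.1 x - v i0 x) = unitDiff p p' :=
    fun j => exists_unitDiff d hd _ (hrel j.1 i0) (hn j.1 i0 j.2)
  choose P Q hne hw using hw
  have hv : ∀ (j : {j : ι // j ≠ i0}) x, v j.1 x = v i0 x + unitDiff (P j) (Q j) x := fun j x => by
    rw [← congrFun (hw j) x]; ring
  have hexcl : ∀ j k : {j : ι // j ≠ i0}, j ≠ k → (P j = P k ∧ Q j ≠ Q k) ∨ (P j ≠ P k ∧ Q j = Q k) := by
    intro j k hjk
    have h := hn j.1 k.1 fun e => hjk (Subtype.ext e)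
    have e : ∀ x, (v j.1 x - v k.1 x) * (v j.1 x - v k.1 x) =
        unitDiff (P j) (Q j) x * (unitDiff (P j) (Q j) x - unitDiff (P k) (Q k) x) -
          unitDiff (P k) (Q k) x * (unitDiff (P j) (Q j) x - unitDiff (P k) (Q k) x) := fun x => by
      rw [hv j x, hv k x]; ring
    rw [Finset.sum_congr rfl fun x _ => e x, Finset.sum_sub_distrib, sum_unitDiff_mul, sum_unitDiff_mul] at h
    simp only [unitDiff] at h
    simp only [hne j, hne k, (hne j).symm, (hne k).symm, if_false, if_true] at h
    by_cases a : P j = P k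
    · have b1 : P j ≠ Q k := a ▸ hne k
      have b2 : Q j ≠ P k := a ▸ (hne j).symm
      refine Or.inl ⟨a, fun b => ?_⟩
      simp [a, b, hne k, (hne k).symm] at h
    · by_cases b : Q j = Q k
      · exact Or.inr ⟨a, b⟩
      · exfalso
        simp only [a, b, Ne.symm a, Ne.symm b, if_false] at h
        split_ifs at h <;> omega
  obtain ⟨j0, j1, hj⟩ := Fintype.exists_pair_of_one_lt_card (α := {j : ι // j ≠ i0}) (by
    rw [Fintype.card_subtype_compl, Fintype.card_subtype_eq]; omega)
  rcases hexcl j0 j1 hj with ⟨a, b⟩ | ⟨a, b⟩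
  · -- a common positive coordinate
    have hall : ∀ j, P j = P j0 := by
      intro j
      by_contra hj'
      have h0 := (hexcl j j0 fun e => hj' (e ▸ rfl)).resolve_left (fun h => hj' h.1)
      have h1 := (hexcl j j1 fun e => hj' (e ▸ a.symm)).resolve_left (fun h => hj' (h.1.trans a.symm))
      exact b (h0.2.symm.trans h1.2)
    refine ⟨fun i => if h : i = i0 then P j0 else Q ⟨i, h⟩, -1,
      fun x => v i0 x + if x = P j0 then 1 else 0, ?_, Or.inr rfl, ?_⟩
    · intro i i' e
      simp only at e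
      split_ifs at e with h h' h'
      · rw [h, h']
      · exact absurd e (hall ⟨i', h'⟩ ▸ hne ⟨i', h'⟩)
      · exact absurd e.symm (hall ⟨i, h⟩ ▸ hne ⟨i, h⟩)
      · by_contra hii
        rcases hexcl ⟨i, h⟩ ⟨i', h'⟩ (fun e => hii (congrArg Subtype.val e)) with ⟨-, h2⟩ | ⟨h1, -⟩
        exacts [h2 e, h1 ((hall _).trans (hall _).symm)]
    · intro i x
      by_cases h : i = i0
      · subst h; simp only [dite_true]; split_ifs <;> ring
      · simp only [dif_neg h]
        rw [hv ⟨i, h⟩ x, unitDiff, hall ⟨i, h⟩]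
        split_ifs <;> ring
  · -- a common negative coordinate
    have hall : ∀ j, Q j = Q j0 := by
      intro j
      by_contra hj'
      have h0 := (hexcl j j0 fun e => hj' (e ▸ rfl)).resolve_right (fun h => hj' h.2)
      have h1 := (hexcl j j1 fun e => hj' (e ▸ b.symm)).resolve_right (fun h => hj' (h.2.trans b.symm))
      exact a (h0.1.symm.trans h1.1)
    refine ⟨fun i => if h : i = i0 then Q j0 else P ⟨i, h⟩, 1,
      fun x => v i0 x - if x = Q j0 then 1 else 0, ?_, Or.inl rfl, ?_⟩
    · intro i i' e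
      simp only at e
      split_ifs at e with h h' h'
      · rw [h, h']
      · exact absurd e.symm (hall ⟨i', h'⟩ ▸ hne ⟨i', h'⟩)
      · exact absurd e (hall ⟨i, h⟩ ▸ hne ⟨i, h⟩)
      · by_contra hii
        rcases hexcl ⟨i, h⟩ ⟨i', h'⟩ (fun e => hii (congrArg Subtype.val e)) with ⟨-, h2⟩ | ⟨h1, -⟩
        exacts [h2 ((hall _).trans (hall _).symm), h1 e]
    · intro i x
      by_cases h : i = i0
      · subst h; simp only [dite_true]; split_ifs <;> ring
      · simp only [dif_neg h]
        rw [hv ⟨i, h⟩ x, unitDiff, hall ⟨i, h⟩]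
        split_ifs <;> ring

end Cfsg.Agent.Lib.Ree.ClassSquare
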