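import Cfsg.Agent.Lib.Ree.ClassSquare.Count
import Cfsg.Agent.Lib.Ree.Tori.Theorems
import Cfsg.Agent.Lib.Chars.PermChar
import Cfsg.Agent.Lib.Chars.Induced
import Cfsg.Agent.Lib.Chars.DefectZero
import Cfsg.Agent.Lib.BrauerInd.PermChar

/-!
The Steinberg character of a small Ree group and the degrees of the other irreducible characters.
-/

set_option autoImplicit false

namespace Cfsg.Agent.Lib.Ree.ClassSquare

open Cfsg Cfsg.Agent.Lib Subgroup
open Cfsg.Agent.Lib.Ree.Tori
open scoped ComplexConjugate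

universe u

variable {G : Type u} [Group G] [Fintype G] {K : Type*} [Field K] [Fintype K]

local notation "q" => Fintype.card K

variable (S : Sys G K)
include S

theorem fixed_iff {g h : G} : g • (h : G ⧸ S.B) = (h : G ⧸ S.B) ↔ h⁻¹ * g * h ∈ S.B := by
  rw [MulAction.Quotient.smul_coe, eq_comm, QuotientGroup.eq, smul_eq_mul, mul_assoc]

/-- The points of the doubly transitive representation. -/
noncomputable def pointEquiv : Option ↥S.U ≃ G ⧸ S.B :=
  Equiv.ofBijective (fun o => o.elim ((1 : G) : G ⧸ S.B) fun u => (((u : G) * S.n : G) : G ⧸ S.B)) <| by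
    constructor
    · rintro (_ | u) (_ | v) e
      · rfl
      · exact absurd (QuotientGroup.eq.1 e) fun h => S.nub_notMem v.2 (one_mem S.B) (by simpa using h)
      · exact absurd (QuotientGroup.eq.1 e.symm) fun h => S.nub_notMem u.2 (one_mem S.B) (by simpa using h)
      · have h := QuotientGroup.eq.1 (show (((u : G) * S.n : G) : G ⧸ S.B) = (((v : G) * S.n : G) : G ⧸ S.B) from e)
        have h1 := (S.nub_unique u.2 v.2 h (one_mem _) (by group)).1
        rw [Subtype.ext h1]
    · intro P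
      induction P using QuotientGroup.induction_on with
      | H g =>
        by_cases hg : g ∈ S.B
        · exact ⟨none, QuotientGroup.eq.2 (by simpa using hg)⟩
        · obtain ⟨u, hu, b, hb, rfl⟩ := S.cover g hg
          exact ⟨some ⟨u, hu⟩, QuotientGroup.eq.2 (by simpa [mul_assoc] using hb)⟩

theorem card_points : Nat.card (G ⧸ S.B) = q ^ 3 + 1 := by
  rw [← Nat.card_congr (pointEquiv S), Finite.card_option, S.card_U]

theorem two_transitive : MulAction.IsMultiplyPretransitive G (G ⧸ S.B) 2 := by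
  rw [MulAction.is_two_pretransitive_iff]
  have key : ∀ a b : G ⧸ S.B, a ≠ b → ∃ g : G, g • a = ((1 : G) : G ⧸ S.B) ∧ g • b = ((S.n : G) : G ⧸ S.B) := by
    intro a b hab
    induction a using QuotientGroup.induction_on with
    | H g =>
      induction b using QuotientGroup.induction_on with
      | H h =>
        have hB : g⁻¹ * h ∉ S.B := fun e => hab (QuotientGroup.eq.2 e)
        obtain ⟨u, hu, c, hc, e⟩ := S.cover _ hB
        refine ⟨u⁻¹ * g⁻¹, QuotientGroup.eq.2 ?_, QuotientGroup.eq.2 ?_⟩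
        · simpa [mul_assoc] using S.U_le hu
        · show (u⁻¹ * g⁻¹ * h)⁻¹ * S.n ∈ S.B
          rw [show (u⁻¹ * g⁻¹ * h)⁻¹ * S.n = (g⁻¹ * h)⁻¹ * u * S.n by group, e,
            show (u * S.n * c)⁻¹ * u * S.n = c⁻¹ by group]
          exact inv_mem hc
  intro a b c d hab hcd
  obtain ⟨g, g1, g2⟩ := key a b hab
  obtain ⟨k, k1, k2⟩ := key c d hcd
  exact ⟨k⁻¹ * g, by rw [mul_smul, g1, ← k1, inv_smul_smul], by rw [mul_smul, g2, ← k2, inv_smul_smul]⟩

/-- The Steinberg character. -/
noncomputable def St : IrrCharacter G :=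
  ⟨fun g => Chars.permChar (G ⧸ S.B) g - 1, by
    have : Nontrivial (G ⧸ S.B) := Finite.one_lt_card_iff_nontrivial.1 (by
      rw [card_points S]; have := pow_pos (show 0 < q from Fintype.card_pos) 3; omega)
    exact (Chars.isIrrCharacter_permChar_sub_one_iff (G ⧸ S.B)).2 (two_transitive S)⟩

theorem St_apply (g : G) :
    (St S : G → ℂ) g = (Nat.card {h : G ⧸ S.B // g • h = h} : ℂ) - 1 := rfl

theorem card_fixed (g : G) : Nat.card {h : G ⧸ S.B // g • h = h} =
    Nat.card {o : Option ↥S.U // o.elim (g ∈ S.B) fun u => ((u : G) * S.n)⁻¹ * g * ((u : G) * S.n) ∈ S.B} := by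
  refine (Nat.card_congr ((pointEquiv S).subtypeEquiv fun o => ?_)).symm
  show _ ↔ g • (pointEquiv S o) = pointEquiv S o
  cases o with
  | none => exact Iff.trans (by simp) (fixed_iff S).symm
  | some u => exact (fixed_iff S).symm

theorem St_one : (St S : G → ℂ) 1 = ((q : ℂ) ^ 3) := by
  rw [St_apply]
  rw [Nat.card_congr (Equiv.subtypeUnivEquiv fun h => one_smul G h), card_points S]
  push_cast
  ring

theorem St_U {u : G} (hu : u ∈ S.U) (hu1 : u ≠ 1) : (St S : G → ℂ) u = 0 := by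
  rw [St_apply, card_fixed]
  rw [show Nat.card _ = 1 from Nat.card_eq_one_iff_unique.2
    ⟨⟨fun o o' => Subtype.ext ?_⟩, ⟨⟨none, S.U_le hu⟩⟩⟩]
  · simp
  · have h : ∀ o : {o : Option ↥S.U // o.elim (u ∈ S.B) fun v => ((v : G) * S.n)⁻¹ * u * ((v : G) * S.n) ∈ S.B},
        o.1 = none := by
      rintro ⟨_ | v, hv⟩
      · rfl
      · have := S.mem_B_of_conj_U hu hu1 (g := ((v : G) * S.n)⁻¹) (by rw [inv_inv]; exact hv)
        refine absurd (inv_mem this) ?_
        rw [inv_inv, ← mul_one ((v : G) * S.n)]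
        exact S.nub_notMem v.2 (one_mem _)
    rw [h o, h o']

theorem fixed_H {h : G} (hh : h ∈ S.H) {u : G} (hu : u ∈ S.U) :
    (u * S.n)⁻¹ * h * (u * S.n) ∈ S.B ↔ Commute h u := by
  constructor
  · intro hf
    have h3 := S.mem_H_of_two hu (one_mem S.B) (S.H_le hh) (by rw [mul_one]; exact hf)
    have h4 : u⁻¹ * h * u * h⁻¹ = 1 := S.eq_one_of_mem_UH (by
      rw [show u⁻¹ * h * u * h⁻¹ = u⁻¹ * (h * u * h⁻¹) by group]
      exact mul_mem (inv_mem hu) (S.U_conj h (S.H_le hh) u hu)) (mul_mem h3 (inv_mem hh))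
    rw [mul_inv_eq_one, mul_assoc, inv_mul_eq_iff_eq_mul] at h4
    exact h4
  · intro hc
    rw [show (u * S.n)⁻¹ * h * (u * S.n) = S.n⁻¹ * (u⁻¹ * (h * u)) * S.n by group, hc.eq, inv_mul_cancel_left]
    have := S.n_inv h hh
    rw [S.n_inv_self] at this ⊢
    rw [this]
    exact inv_mem (S.H_le hh)

theorem St_H {h : G} (hh : h ∈ S.H) :
    (St S : G → ℂ) h = (Nat.card {u : ↥S.U // Commute h u} : ℂ) := by
  rw [St_apply, card_fixed]
  have e : {o : Option ↥S.U // o.elim (h ∈ S.B) fun u => ((u : G) * S.n)⁻¹ * h * ((u : G) * S.n) ∈ S.B} ≃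
      Option {u : ↥S.U // Commute h u} :=
    { toFun := fun o => match o with
        | ⟨none, _⟩ => none
        | ⟨some u, hu⟩ => some ⟨u, (fixed_H S hh u.2).1 hu⟩
      invFun := fun o => match o with
        | none => ⟨none, S.H_le hh⟩
        | some u => ⟨some u.1, (fixed_H S hh u.1.2).2 u.2⟩
      left_inv := by rintro ⟨_ | u, hu⟩ <;> rfl
      right_inv := by rintro (_ | u) <;> rfl }
  rw [Nat.card_congr e, Finite.card_option]
  push_cast
  ring

theorem St_a : (St S : G → ℂ) S.a = (q : ℂ) := by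
  rw [St_H S S.a_mem, ← S.card_CU]
  refine congrArg _ (Nat.card_congr ?_)
  exact
    { toFun := fun u => ⟨u.1, Subgroup.mem_inf.2 ⟨u.1.2, mem_centralizer_singleton_iff.2 u.2.symm.eq⟩⟩
      invFun := fun u => ⟨⟨u, S.CU_U u.2⟩, (mem_centralizer_singleton_iff.1 (S.CU_Ca u.2)).symm⟩
      left_inv := fun _ => rfl
      right_inv := fun _ => rfl }

theorem St_YH {h : G} (hh : h ∈ S.YH) : (St S : G → ℂ) h = 1 := by
  rw [St_H S hh.1]
  have : Nat.card {u : ↥S.U // Commute h u} = 1 := by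
    refine Nat.card_eq_one_iff_unique.2 ⟨⟨fun u v => ?_⟩, ⟨⟨1, Commute.one_right h⟩⟩⟩
    have h1 : ∀ w : {u : ↥S.U // Commute h u}, w.1 = 1 := fun w => Subtype.ext (by
      by_contra hw
      exact hh.2 (S.fpf h hh.1 _ w.1.2 hw w.2))
    exact Subtype.ext ((h1 u).trans (h1 v).symm)
  rw [this, Nat.cast_one]

theorem St_coprime {x : G} {k : ℕ} (h1 : x ^ k ≠ 1) (hco : (orderOf (x ^ k)).Coprime (Nat.card ↥S.B)) :
    (St S : G → ℂ) x = -1 := by
  rw [St_apply]
  have : IsEmpty {h : G ⧸ S.B // x • h = h} := ⟨fun ⟨P, hP⟩ => by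
    induction P using QuotientGroup.induction_on with
    | H g =>
      have hx : g⁻¹ * x * g ∈ S.B := (fixed_iff S).1 hP
      have hk := pow_mem hx k
      rw [show g⁻¹ * x * g = g⁻¹ * x * g⁻¹⁻¹ by rw [inv_inv], conj_pow] at hk
      refine h1 (conj_eq_one_iff.1 (orderOf_eq_one_iff.1 (Nat.eq_one_of_dvd_coprimes hco ?_ (Subgroup.orderOf_dvd_natCard _ hk))))
      rw [orderOf_conj']⟩
  rw [Nat.card_of_isEmpty]
  simp

theorem St_ne_trivial : St S ≠ Chars.trivialIrr G := fun h => by
  have h1 : (St S : G → ℂ) 1 = 1 := by rw [h]; rfl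
  rw [St_one S] at h1
  have h2 : q ^ 3 = 1 := by exact_mod_cast h1
  have := S.q_ge
  have := Nat.le_self_pow (show 3 ≠ 0 by norm_num) q
  omega

theorem deg_St : deg (St S) = q ^ 3 := by
  have h := (deg_spec (St S)).1
  rw [St_one S] at h
  exact_mod_cast h.symm

theorem eq_trivial_of_deg_one {χ : IrrCharacter G} (h : deg χ = 1) : χ = Chars.trivialIrr G := by
  obtain ⟨φ, hφ⟩ := Chars.exists_hom_of_degree_one (Chars.irr_isCharacter χ)
    (by rw [(deg_spec χ).1, h, Nat.cast_one])
  have hker : φ.ker = ⊤ := top_le_iff.1 (S.perfect ▸ Abelianization.commutator_subset_ker φ)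
  refine Subtype.ext (funext fun g => ?_)
  have hg : φ g = 1 := MonoidHom.mem_ker.1 (hker ▸ Subgroup.mem_top g)
  show (χ : G → ℂ) g = 1
  rw [hφ]
  simp [hg]

/-- The hypothesis on the degrees of representations. -/
def DegBound (_S : Sys G K) : Prop :=
  ∀ (k : ℕ) (ρ : Representation ℂ G (Fin k → ℂ)), ρ.IsIrreducible → 2 ≤ k → q ^ 2 - q + 1 ≤ k

theorem le_deg (hd : DegBound S) {χ : IrrCharacter G} (hχ : χ ≠ Chars.trivialIrr G) :
    q ^ 2 - q + 1 ≤ deg χ := by
  obtain ⟨n, ρ, hirr, hρ⟩ := χ.2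
  have h1 : (χ : G → ℂ) 1 = (n : ℂ) := by
    rw [← hρ, ρ.char_one, Module.finrank_fin_fun]
  rw [(deg_spec χ).1, Nat.cast_inj] at h1
  rw [h1]
  refine hd n ρ hirr ?_
  have := (deg_spec χ).2.1
  have : deg χ ≠ 1 := fun h => hχ (eq_trivial_of_deg_one S h)
  omega

/-- The split part of an element of `B`. -/
noncomputable def projH : ↥S.B →* ↥S.H := by
  classical
  refine MonoidHom.mk' (fun b => ⟨(S.split b b.2).choose_spec.2.choose, (S.split b b.2).choose_spec.2.choose_spec.1⟩) ?_
  intro b c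
  set u := (S.split b b.2).choose
  set h := (S.split b b.2).choose_spec.2.choose
  set u' := (S.split c c.2).choose
  set h' := (S.split c c.2).choose_spec.2.choose
  have hu : u ∈ S.U := (S.split b b.2).choose_spec.1
  have hh : h ∈ S.H := (S.split b b.2).choose_spec.2.choose_spec.1
  have e : (b : G) = u * h := (S.split b b.2).choose_spec.2.choose_spec.2
  have hu' : u' ∈ S.U := (S.split c c.2).choose_spec.1
  have hh' : h' ∈ S.H := (S.split c c.2).choose_spec.2.choose_spec.1
  have e' : (c : G) = u' * h' := (S.split c c.2).choose_spec.2.choose_spec.2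
  set v := (S.split (b * c : ↥S.B) (b * c).2).choose
  set k := (S.split (b * c : ↥S.B) (b * c).2).choose_spec.2.choose
  have hv : v ∈ S.U := (S.split (b * c : ↥S.B) (b * c).2).choose_spec.1
  have hk : k ∈ S.H := (S.split (b * c : ↥S.B) (b * c).2).choose_spec.2.choose_spec.1
  have e'' : ((b * c : ↥S.B) : G) = v * k := (S.split (b * c : ↥S.B) (b * c).2).choose_spec.2.choose_spec.2
  refine Subtype.ext ?_
  show k = h * h'
  refine ((S.uh_unique hv (mul_mem hu (S.U_conj h (S.H_le hh) u' hu')) hk (mul_mem hh hh') ?_).2)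
  rw [← e'', Subgroup.coe_mul, e, e']
  group

theorem projH_of_U {b : ↥S.B} (hb : (b : G) ∈ S.U) : projH S b = 1 := by
  refine Subtype.ext ?_
  show (S.split b b.2).choose_spec.2.choose = 1
  exact ((S.uh_unique hb (S.split b b.2).choose_spec.1 (one_mem _) (S.split b b.2).choose_spec.2.choose_spec.1
    (by rw [mul_one]; exact (S.split b b.2).choose_spec.2.choose_spec.2)).2).symm

theorem mem_U_of_projH {b : ↥S.B} (hb : projH S b = 1) : (b : G) ∈ S.U := by
  have h : (S.split b b.2).choose_spec.2.choose = 1 := congrArg Subtype.val hb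
  rw [(S.split b b.2).choose_spec.2.choose_spec.2, h, mul_one]
  exact (S.split b b.2).choose_spec.1

theorem fac_three : (Nat.card G).factorization 3 = 3 * (2 * S.m + 1) ∧ q ^ 3 = 3 ^ (3 * (2 * S.m + 1)) := by
  have e : q ^ 3 = 3 ^ (3 * (2 * S.m + 1)) := by rw [S.card_K, ← pow_mul, mul_comm]
  refine ⟨?_, e⟩
  have hq := S.q_ge
  have h1 : ¬ 3 ∣ q - 1 := by have := S.three_dvd; omega
  have h3 : ¬ 3 ∣ q ^ 3 + 1 := by
    have : 3 ∣ q ^ 3 := dvd_pow S.three_dvd (by norm_num)
    omega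
  have hq0 : q ^ 3 ≠ 0 := pow_ne_zero 3 Fintype.card_pos.ne'
  rw [S.card_G, Nat.factorization_mul (mul_ne_zero hq0 (by omega)) (by omega),
    Nat.factorization_mul hq0 (by omega), Finsupp.add_apply, Finsupp.add_apply,
    Nat.factorization_eq_zero_of_not_dvd h1, Nat.factorization_eq_zero_of_not_dvd h3, add_zero, add_zero,
    e, Nat.prime_three.factorization_pow, Finsupp.single_eq_same]

theorem three_dvd_orderOf_U {u : G} (hu : u ∈ S.U) (hu1 : u ≠ 1) : 3 ∣ orderOf u := by
  obtain ⟨i, -, hi⟩ := (Nat.dvd_prime_pow Nat.prime_three).1 (S.mem_U_of_pow hu)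
  cases i with
  | zero => exact absurd (orderOf_eq_one_iff.1 (hi.trans (pow_zero 3))) hu1
  | succ j => exact hi ▸ dvd_pow_self 3 (by omega)

/-- Only the Steinberg character has degree divisible by `q^3`. -/
theorem eq_St (hd : DegBound S) {χ : IrrCharacter G} (h : q ^ 3 ∣ deg χ) : χ = St S := by
  classical
  have hq := S.q_ge
  obtain ⟨f1, f2⟩ := fac_three S
  obtain ⟨n, ρ, hirr, hρ⟩ := χ.2
  have hdn : deg χ = n := by
    have h1 := (deg_spec χ).1
    rw [← hρ, ρ.char_one, Module.finrank_fin_fun, Nat.cast_inj] at h1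
    exact h1.symm
  have hvan : ∀ u ∈ S.U, u ≠ 1 → (χ : G → ℂ) u = 0 := fun u hu hu1 => by
    rw [← hρ]
    refine Chars.char_eq_zero_of_defect_zero ρ (n := 3 * (2 * S.m + 1)) Nat.prime_three ?_ ?_ ?_ u
      (three_dvd_orderOf_U S hu hu1)
    · exact f1 ▸ Nat.ordProj_dvd _ 3
    · exact f1 ▸ Nat.pow_succ_factorization_not_dvd Nat.card_pos.ne' Nat.prime_three
    · rw [Module.finrank_fin_fun, ← hdn, ← f2]; exact h
  have : IsMulCommutative ↥S.H := by have := S.cyc; infer_instance
  have hcj : ∀ a b : ↥S.H, IsConj a b → a = b := fun a b e => by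
    obtain ⟨c, rfl⟩ := isConj_iff.1 e
    rw [IsMulCommutative.is_comm.comm c a, mul_inv_cancel_right]
  let θ : IrrCharacter ↥S.H → ↥S.B → ℂ := fun l b => (l : ↥S.H → ℂ) (projH S b)
  have hθ : ∀ l, IsCharacter ↥S.B (θ l) := fun l => Chars.isCharacter_comp (projH S) (Chars.irr_isCharacter l)
  have hsum : ∑ l : IrrCharacter ↥S.H, classInner (fun b : ↥S.B => (χ : G → ℂ) b) (θ l) =
      (deg χ : ℂ) / (q : ℂ) ^ 3 := by
    simp only [classInner, θ, ← Finset.mul_sum]
    rw [Finset.sum_comm, Finset.sum_eq_single (1 : ↥S.B)]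
    · have hl : ∀ l : IrrCharacter ↥S.H, conj ((l : ↥S.H → ℂ) (projH S 1)) = 1 := fun l => by
        rw [map_one, Chars.irr_apply_one_of_comm, map_one]
      simp only [hl, mul_one, Finset.sum_const, Finset.card_univ, nsmul_eq_mul]
      rw [show ((1 : ↥S.B) : G) = 1 from rfl, (deg_spec χ).1, ← Nat.card_eq_fintype_card,
        Chars.card_irrCharacter, S.card_B]
      have hH : Nat.card (ConjClasses ↥S.H) = q - 1 := by
        rw [← S.card_H]
        exact (Nat.card_eq_of_bijective (ConjClasses.mk : ↥S.H → ConjClasses ↥S.H)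
          ⟨fun a b e => hcj a b (ConjClasses.mk_eq_mk_iff_isConj.1 e), ConjClasses.mk_surjective⟩).symm
      rw [hH]
      have : ((q - 1 : ℕ) : ℂ) ≠ 0 := Nat.cast_ne_zero.2 (by omega)
      have : (q : ℂ) ≠ 0 := Nat.cast_ne_zero.2 (by omega)
      push_cast
      field_simp
    · intro b _ hb
      by_cases hbU : (b : G) ∈ S.U
      · rw [hvan _ hbU fun e => hb (Subtype.ext e)]
        simp
      · have hne : ¬ IsConj (1 : ↥S.H) (projH S b) := fun e => hbU (mem_U_of_projH S (hcj _ _ e).symm)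
        have := Chars.column_orthogonality_of_not_isConj hne
        simp only [Chars.irr_apply_one_of_comm, one_mul] at this
        rw [← Finset.mul_sum, this, mul_zero]
    · simp
  obtain ⟨l, hl⟩ : ∃ l, classInner (fun b : ↥S.B => (χ : G → ℂ) b) (θ l) ≠ 0 := by
    by_contra hno
    push Not at hno
    rw [Finset.sum_eq_zero fun l _ => hno l, eq_comm, div_eq_zero_iff] at hsum
    rcases hsum with h0 | h0
    · exact (deg_spec χ).2.1.ne' (by exact_mod_cast h0)
    · exact pow_ne_zero 3 (Nat.cast_ne_zero.2 (by omega : q ≠ 0)) h0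
  have hφ : IsCharacter G (indFun S.B (θ l)) := Chars.isCharacter_indFun S.B (hθ l)
  have hcoef : ∀ ψ : IrrCharacter G, ∃ k : ℕ, classInner (indFun S.B (θ l)) (ψ : G → ℂ) = k :=
    fun ψ => Chars.isCharacter_classInner_nat hφ (Chars.irr_isCharacter ψ)
  choose k hk using hcoef
  have htot : ∑ ψ : IrrCharacter G, k ψ * deg ψ = q ^ 3 + 1 := by
    have h1 := congrFun (Chars.isCharacter_eq_sum_classInner hφ) 1
    rw [Chars.indFun_one_eq, show θ l 1 = 1 by simp [θ, Chars.irr_apply_one_of_comm], mul_one] at h1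
    simp only [Finset.sum_apply, Pi.smul_apply, smul_eq_mul, hk, (deg_spec _).1] at h1
    have hidx : S.B.index = q ^ 3 + 1 := by rw [Subgroup.index_eq_card, card_points S]
    rw [hidx] at h1
    exact_mod_cast h1.symm
  have hkχ : 1 ≤ k χ := Nat.one_le_iff_ne_zero.2 fun h0 => hl (by
    rw [← Chars.classInner_indFun_right S.B _ _ (Chars.irr_isClassFunction χ),
      ← Chars.conj_classInner, hk, h0, Nat.cast_zero, map_zero])
  have hq3 : 2 ≤ q ^ 3 := le_trans (by omega) (Nat.le_self_pow (by norm_num) q)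
  have hsplit := Finset.add_sum_erase Finset.univ (fun ψ => k ψ * deg ψ) (Finset.mem_univ χ)
  rw [htot] at hsplit
  obtain ⟨c, hc⟩ := h
  have hc0 : 0 < c := Nat.pos_of_ne_zero fun e => (deg_spec χ).2.1.ne' (by rw [hc, e, mul_zero])
  have hge : q ^ 3 ≤ deg χ := hc ▸ Nat.le_mul_of_pos_right _ hc0
  have hkd : deg χ ≤ k χ * deg χ := Nat.le_mul_of_pos_left _ hkχ
  have hc1 : c = 1 := by
    by_contra hne
    have : q ^ 3 * 2 ≤ q ^ 3 * c := Nat.mul_le_mul_left _ (by omega)
    omega
  have hk1 : k χ = 1 := by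
    by_contra hne
    have : 2 * deg χ ≤ k χ * deg χ := Nat.mul_le_mul_right _ (by omega)
    omega
  rw [hk1, one_mul, hc, hc1, mul_one] at hsplit
  have hχ1 : χ ≠ Chars.trivialIrr G := fun e => by
    rw [e] at hge
    have : deg (Chars.trivialIrr G) = 1 := by simp [deg, charDegree, Chars.trivialIrr]
    omega
  have hk0 : k (Chars.trivialIrr G) ≠ 0 := by
    intro h0
    have : ∑ ψ ∈ Finset.univ.erase χ, k ψ * deg ψ ≠ 1 := by
      by_cases hall : ∀ ψ ∈ Finset.univ.erase χ, k ψ * deg ψ = 0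
      · rw [Finset.sum_eq_zero hall]; exact zero_ne_one
      · push Not at hall
        obtain ⟨ψ, hψ, hne⟩ := hall
        have h2 := Finset.single_le_sum (f := fun ψ => k ψ * deg ψ) (fun _ _ => Nat.zero_le _) hψ
        have hne' : ψ ≠ Chars.trivialIrr G := fun e => hne (by rw [e, h0, zero_mul])
        have h3 := le_deg S hd hne'
        have h4 : deg ψ ≤ k ψ * deg ψ := Nat.le_mul_of_pos_left _ (Nat.pos_of_ne_zero (left_ne_zero_of_mul hne))
        have : q * 2 ≤ q ^ 2 := by rw [pow_two]; exact Nat.mul_le_mul_left _ (by omega)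
        omega
    omega
  -- the linear character is trivial
  have hθ1 : θ l = fun _ => 1 := by
    have h1 : θ l 1 = 1 := by simp [θ, Chars.irr_apply_one_of_comm]
    obtain ⟨φ, hφ'⟩ := Chars.exists_hom_of_degree_one (hθ l) h1
    have hirr : IsIrrCharacter ↥S.B (θ l) := by
      rw [hφ']; exact Chars.isIrrCharacter_of_hom φ
    by_contra hne
    refine hk0 ?_
    have h2 := hk (Chars.trivialIrr G)
    rw [Chars.classInner_indFun_left S.B _ _ (Chars.irr_isClassFunction _)] at h2
    have h3 := Chars.classInner_irr_of_ne (χ := (⟨θ l, hirr⟩ : IrrCharacter ↥S.B)) (ψ := Chars.trivialIrr ↥S.B)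
      (fun e => hne (congrArg Subtype.val e))
    have h4 : ((k (Chars.trivialIrr G) : ℕ) : ℂ) = 0 := by rw [← h2, ← h3]; rfl
    exact_mod_cast h4
  -- compare with the permutation character
  by_contra hne
  have h1 : classInner (indFun S.B (θ l)) (χ : G → ℂ) = 0 := by
    rw [hθ1]
    have e : indFun S.B (fun _ : ↥S.B => (1 : ℂ)) =
        (St S : G → ℂ) + (Chars.trivialIrr G : G → ℂ) := by
      funext g
      rw [BrauerInd.indFun_one_apply]
      show _ = Chars.permChar (G ⧸ S.B) g - 1 + 1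
      rw [sub_add_cancel]
      rfl
    rw [e, Chars.classInner_add_left, Chars.classInner_irr_of_ne (Ne.symm hne),
      Chars.classInner_irr_of_ne (Ne.symm hχ1), add_zero]
  rw [hk, hk1] at h1
  norm_num at h1

end Cfsg.Agent.Lib.Ree.ClassSquare
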