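import Cfsg.Agent.Lib.Chars.Ops
import Cfsg.Agent.Lib.Chars.Induced
import Cfsg.Agent.Lib.Ree.Tori.QuarterC
import Mathlib

/-!
Restrictions of irreducible characters to an abelian subgroup, and the products of the functions induced
from differences of its linear characters.
-/

set_option autoImplicit false

namespace Cfsg.Agent.Lib.Ree.ClassSquare

open Cfsg Cfsg.Agent.Lib Subgroup
open scoped ComplexConjugate

universe u

variable {G : Type u} [Group G] [Fintype G] (T : Subgroup G) [Fintype ↥T]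

/-- The multiplicity of `l` in the restriction of `χ`. -/
noncomputable def mult (χ : IrrCharacter G) (l : IrrCharacter ↥T) : ℕ :=
  (Chars.isCharacter_classInner_nat (Chars.isCharacter_restrict T (Chars.irr_isCharacter χ))
    (Chars.irr_isCharacter l)).choose

theorem mult_spec (χ : IrrCharacter G) (l : IrrCharacter ↥T) :
    classInner (fun y : ↥T => (χ : G → ℂ) y) (l : ↥T → ℂ) = (mult T χ l : ℂ) :=
  (Chars.isCharacter_classInner_nat (Chars.isCharacter_restrict T (Chars.irr_isCharacter χ))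
    (Chars.irr_isCharacter l)).choose_spec

theorem apply_eq_sum_mult (χ : IrrCharacter G) (y : ↥T) :
    (χ : G → ℂ) y = ∑ l : IrrCharacter ↥T, (mult T χ l : ℂ) * (l : ↥T → ℂ) y := by
  have h := congrFun (Chars.isCharacter_eq_sum_classInner
    (Chars.isCharacter_restrict T (Chars.irr_isCharacter χ))) y
  simpa only [Finset.sum_apply, Pi.smul_apply, smul_eq_mul, mult_spec] using h

/-- Characters agreeing on the subgroup have equal multiplicities. -/
theorem mult_congr {χ ψ : IrrCharacter G} (h : ∀ y ∈ T, (χ : G → ℂ) y = (ψ : G → ℂ) y) (l : IrrCharacter ↥T) :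
    mult T χ l = mult T ψ l := by
  have : (fun y : ↥T => (χ : G → ℂ) y) = fun y : ↥T => (ψ : G → ℂ) y := funext fun y => h y y.2
  have h1 := mult_spec T χ l
  rw [this, mult_spec] at h1
  exact_mod_cast h1.symm

/-- Conjugation by an element of the normaliser. -/
def conjT (g : ↥(normalizer (T : Set G))) : ↥T ≃* ↥T where
  toFun y := ⟨(g : G)⁻¹ * y * g, by simpa using (Subgroup.mem_normalizer_iff.1 (inv_mem g.2) y).1 y.2⟩
  invFun y := ⟨(g : G) * y * (g : G)⁻¹, (Subgroup.mem_normalizer_iff.1 g.2 y).1 y.2⟩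
  left_inv y := Subtype.ext (by show (g : G) * ((g : G)⁻¹ * y * g) * (g : G)⁻¹ = y; group)
  right_inv y := Subtype.ext (by show (g : G)⁻¹ * ((g : G) * y * (g : G)⁻¹) * g = y; group)
  map_mul' y z := Subtype.ext (by
    show (g : G)⁻¹ * (y * z : G) * g = (g : G)⁻¹ * y * g * ((g : G)⁻¹ * z * g); group)

omit [Fintype G] [Fintype ↥T] in
theorem coe_conjT (g : ↥(normalizer (T : Set G))) (y : ↥T) : (conjT T g y : G) = (g : G)⁻¹ * y * g := rfl

/-- The action of the normaliser on the characters of the subgroup. -/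
noncomputable def act (g : ↥(normalizer (T : Set G))) (l : IrrCharacter ↥T) : IrrCharacter ↥T :=
  Chars.irrCongr (conjT T g) l

theorem act_apply (g : ↥(normalizer (T : Set G))) (l : IrrCharacter ↥T) (y : ↥T) :
    (act T g l : ↥T → ℂ) y = (l : ↥T → ℂ) (conjT T g y) := rfl

theorem act_one (l : IrrCharacter ↥T) : act T (1 : ↥(normalizer (T : Set G))) l = l := by
  refine Subtype.ext (funext fun y => ?_)
  rw [act_apply]
  exact congrArg (l : ↥T → ℂ) (Subtype.ext (show ((1 : G))⁻¹ * (y : G) * 1 = y by simp))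

theorem act_mul (g h : ↥(normalizer (T : Set G))) (l : IrrCharacter ↥T) :
    act T (g * h) l = act T g (act T h l) := by
  refine Subtype.ext (funext fun y => ?_)
  rw [act_apply, act_apply, act_apply]
  exact congrArg (l : ↥T → ℂ) (Subtype.ext (show ((g : G) * (h : G))⁻¹ * (y : G) * ((g : G) * (h : G)) =
    (h : G)⁻¹ * ((g : G)⁻¹ * y * g) * h by group))

theorem act_trivial (g : ↥(normalizer (T : Set G))) : act T g (Chars.trivialIrr ↥T) = Chars.trivialIrr ↥T :=
  Subtype.ext (funext fun _ => rfl)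

theorem mult_act (χ : IrrCharacter G) (g : ↥(normalizer (T : Set G))) (l : IrrCharacter ↥T) :
    mult T χ (act T g l) = mult T χ l := by
  have h : classInner (fun y : ↥T => (χ : G → ℂ) y) (act T g l : ↥T → ℂ) =
      classInner (fun y : ↥T => (χ : G → ℂ) y) (l : ↥T → ℂ) := by
    simp only [classInner, act_apply]
    congr 1
    refine Fintype.sum_equiv (conjT T g).toEquiv _ _ fun y => ?_
    simp only [MulEquiv.toEquiv_eq_coe, EquivLike.coe_coe, coe_conjT]
    rw [show (g : G)⁻¹ * (y : G) * g = (g : G)⁻¹ * y * (g : G)⁻¹⁻¹ by rw [inv_inv],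
      Chars.irr_isClassFunction χ (y : G) (g : G)⁻¹]
  rw [mult_spec, mult_spec] at h
  exact_mod_cast h

/-- The number of normalising elements sending `l` to `l'`. -/
noncomputable def hits (l l' : IrrCharacter ↥T) : ℕ :=
  Nat.card {g : ↥(normalizer (T : Set G)) // act T g l = l'}

theorem hits_le (l l' : IrrCharacter ↥T) : hits T l l' ≤ Nat.card ↥(normalizer (T : Set G)) :=
  Nat.card_le_card_of_injective Subtype.val Subtype.val_injective

theorem hits_eq_zero {l l' : IrrCharacter ↥T} (h : ∀ g, act T g l ≠ l') : hits T l l' = 0 := by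
  rw [hits, Nat.card_eq_zero]
  exact Or.inl ⟨fun g => h g.1 g.2⟩

theorem hits_trivial : hits T (Chars.trivialIrr ↥T) (Chars.trivialIrr ↥T) = Nat.card ↥(normalizer (T : Set G)) :=
  Nat.card_congr (Equiv.subtypeUnivEquiv fun g => act_trivial T g)

/-- The support condition on a pair of linear characters. -/
def Supported (la lb : IrrCharacter ↥T) : Prop :=
  (la : ↥T → ℂ) 1 = (lb : ↥T → ℂ) 1 ∧
    ∀ (y : ↥T) (g : G), (la : ↥T → ℂ) y ≠ (lb : ↥T → ℂ) y → g * y * g⁻¹ ∈ T → g ∈ normalizer (T : Set G)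

open scoped Classical in
theorem indFun_apply_mem {la lb : IrrCharacter ↥T} (hs : Supported T la lb) (y : ↥T) :
    indFun T (fun z : ↥T => (la : ↥T → ℂ) z - (lb : ↥T → ℂ) z) y = (Nat.card ↥T : ℂ)⁻¹ *
      ∑ g : ↥(normalizer (T : Set G)), ((act T g la : ↥T → ℂ) y - (act T g lb : ↥T → ℂ) y) := by
  classical
  rw [indFun]
  congr 1
  rw [← Finset.sum_subset (Finset.subset_univ
    (Finset.univ.map ⟨((↑) : ↥(normalizer (T : Set G)) → G), Subtype.val_injective⟩)) fun g _ hg => ?_]
  · rw [Finset.sum_map]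
    refine Finset.sum_congr rfl fun g _ => ?_
    simp only [Function.Embedding.coeFn_mk]
    rw [← coe_conjT T g y, Chars.extendByZero_coe, act_apply, act_apply]
  · by_cases hm : g⁻¹ * y * g ∈ T
    · rw [Chars.extendByZero_of_mem _ hm]
      by_contra hne
      refine hg (Finset.mem_map.2 ⟨⟨g, hs.2 ⟨_, hm⟩ g (fun e => hne (by rw [e, sub_self])) ?_⟩,
        Finset.mem_univ _, rfl⟩)
      rw [show g * (g⁻¹ * y * g) * g⁻¹ = (y : G) by group]
      exact y.2
    · exact Chars.extendByZero_of_not_mem _ hm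

theorem classInner_indFun_eq {la lb : IrrCharacter ↥T} (χ : IrrCharacter G) :
    classInner (indFun T (fun z : ↥T => (la : ↥T → ℂ) z - (lb : ↥T → ℂ) z)) (χ : G → ℂ) =
      (mult T χ la : ℂ) - (mult T χ lb : ℂ) := by
  rw [Chars.classInner_indFun_left T _ _ (Chars.irr_isClassFunction χ)]
  rw [show (fun z : ↥T => (la : ↥T → ℂ) z - (lb : ↥T → ℂ) z) = (la : ↥T → ℂ) - (lb : ↥T → ℂ) from rfl,
    Chars.classInner_sub_left, ← Chars.conj_classInner (fun y : ↥T => (χ : G → ℂ) y),
    ← Chars.conj_classInner (fun y : ↥T => (χ : G → ℂ) y), mult_spec, mult_spec, Complex.conj_natCast,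
    Complex.conj_natCast]

/-- The product of a column of multiplicities with a difference of two others. -/
theorem sum_mult_mul_sub {la lb : IrrCharacter ↥T} (hs : Supported T la lb) (l : IrrCharacter ↥T) :
    (Nat.card ↥T : ℤ) * ∑ χ : IrrCharacter G, (mult T χ l : ℤ) * ((mult T χ la : ℤ) - mult T χ lb) =
      (hits T la l : ℤ) - hits T lb l := by
  classical
  set θ := indFun T (fun z : ↥T => (la : ↥T → ℂ) z - (lb : ↥T → ℂ) z)
  have hθ : IsClassFunction G θ := Chars.isClassFunction_indFun T _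
  have h1 : classInner (fun y : ↥T => θ y) (l : ↥T → ℂ) =
      ∑ χ : IrrCharacter G, ((mult T χ la : ℂ) - mult T χ lb) * mult T χ l := by
    rw [show (fun y : ↥T => θ y) = ∑ χ : IrrCharacter G, ((mult T χ la : ℂ) - mult T χ lb) •
        (fun y : ↥T => (χ : G → ℂ) y) from funext fun y => by
      rw [Chars.isClassFunction_apply_eq_sum_classInner hθ]
      simp only [Finset.sum_apply, Pi.smul_apply, smul_eq_mul, θ, classInner_indFun_eq],
      Chars.classInner_sum_left]
    exact Finset.sum_congr rfl fun χ _ => by rw [Chars.classInner_smul_left, mult_spec]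
  have h2 : (Nat.card ↥T : ℂ) * classInner (fun y : ↥T => θ y) (l : ↥T → ℂ) =
      (hits T la l : ℂ) - hits T lb l := by
    have : (fun y : ↥T => θ y) = (Nat.card ↥T : ℂ)⁻¹ • ∑ g : ↥(normalizer (T : Set G)),
        ((act T g la : ↥T → ℂ) - (act T g lb : ↥T → ℂ)) := funext fun y => by
      simp only [θ, indFun_apply_mem T hs y, Pi.smul_apply, Finset.sum_apply, Pi.sub_apply, smul_eq_mul]
    rw [this, Chars.classInner_smul_left, mul_inv_cancel_left₀ Chars.natCard_ne_zero,
      Chars.classInner_sum_left]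
    simp only [Chars.classInner_sub_left, Chars.classInner_irr, Finset.sum_sub_distrib, Finset.sum_boole, hits,
      Nat.card_eq_fintype_card, Fintype.card_subtype]
  have h3 : (Nat.card ↥T : ℂ) * ∑ χ : IrrCharacter G, (mult T χ l : ℂ) * ((mult T χ la : ℂ) - mult T χ lb) =
      (hits T la l : ℂ) - hits T lb l := by
    rw [← h2, h1]
    congr 1
    exact Finset.sum_congr rfl fun χ _ => mul_comm _ _
  exact_mod_cast h3

/-- The norm of an induced difference. -/
theorem sum_sq_sub {la lb : IrrCharacter ↥T} (hs : Supported T la lb) :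
    (Nat.card ↥T : ℤ) * ∑ χ : IrrCharacter G, ((mult T χ la : ℤ) - mult T χ lb) * ((mult T χ la : ℤ) - mult T χ lb) =
      (hits T la la : ℤ) - hits T lb la - hits T la lb + hits T lb lb := by
  have e : ∑ χ : IrrCharacter G, ((mult T χ la : ℤ) - mult T χ lb) * ((mult T χ la : ℤ) - mult T χ lb) =
      ∑ χ : IrrCharacter G, (mult T χ la : ℤ) * ((mult T χ la : ℤ) - mult T χ lb) -
        ∑ χ : IrrCharacter G, (mult T χ lb : ℤ) * ((mult T χ la : ℤ) - mult T χ lb) := by
    rw [← Finset.sum_sub_distrib]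
    exact Finset.sum_congr rfl fun χ _ => by ring
  rw [e, mul_sub, sum_mult_mul_sub T hs la, sum_mult_mul_sub T hs lb]
  ring

/-- The weighted sum of an induced difference. -/
theorem sum_deg_sub {la lb : IrrCharacter ↥T} (hs : Supported T la lb) :
    ∑ χ : IrrCharacter G, (χ : G → ℂ) 1 * ((mult T χ la : ℂ) - mult T χ lb) = 0 := by
  have h := Chars.isClassFunction_apply_eq_sum_classInner
    (Chars.isClassFunction_indFun T (fun z : ↥T => (la : ↥T → ℂ) z - (lb : ↥T → ℂ) z)) 1
  simp only [classInner_indFun_eq] at h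
  rw [Chars.indFun_one_eq, hs.1, sub_self, mul_zero] at h
  rw [h]
  exact Finset.sum_congr rfl fun χ _ => mul_comm _ _

/-- An induced difference vanishes away from the conjugates of its support. -/
theorem sum_sub_eq_zero {la lb : IrrCharacter ↥T} {z : G}
    (hz : ∀ (g : G) (h : g⁻¹ * z * g ∈ T), (la : ↥T → ℂ) ⟨_, h⟩ = (lb : ↥T → ℂ) ⟨_, h⟩) :
    ∑ χ : IrrCharacter G, ((mult T χ la : ℂ) - mult T χ lb) * (χ : G → ℂ) z = 0 := by
  have h := Chars.isClassFunction_apply_eq_sum_classInner
    (Chars.isClassFunction_indFun T (fun z : ↥T => (la : ↥T → ℂ) z - (lb : ↥T → ℂ) z)) z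
  simp only [classInner_indFun_eq] at h
  rw [← h, indFun]
  refine mul_eq_zero_of_right _ (Finset.sum_eq_zero fun g _ => ?_)
  by_cases hm : g⁻¹ * z * g ∈ T
  · rw [Chars.extendByZero_of_mem _ hm, hz g hm, sub_self]
  · exact Chars.extendByZero_of_not_mem _ hm

section Abelian

variable [IsMulCommutative ↥T]

theorem linear_one (l : IrrCharacter ↥T) : (l : ↥T → ℂ) 1 = 1 := Chars.irr_apply_one_of_comm l

theorem linear_mul (l : IrrCharacter ↥T) (y z : ↥T) :
    (l : ↥T → ℂ) (y * z) = (l : ↥T → ℂ) y * (l : ↥T → ℂ) z := by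
  obtain ⟨φ, hφ⟩ := Chars.exists_hom_of_degree_one (Chars.irr_isCharacter l) (linear_one T l)
  simp [hφ]

theorem card_irr : Fintype.card (IrrCharacter ↥T) = Nat.card ↥T := by
  rw [← Nat.card_eq_fintype_card, Chars.card_irrCharacter]
  exact (Nat.card_eq_of_bijective (ConjClasses.mk : ↥T → ConjClasses ↥T) ⟨fun a b e => by
    obtain ⟨c, hc⟩ := isConj_iff.1 (ConjClasses.mk_eq_mk_iff_isConj.1 e)
    rwa [IsMulCommutative.is_comm.comm c a, mul_inv_cancel_right] at hc, ConjClasses.mk_surjective⟩).symm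

theorem sum_irr_mul_conj (y z : ↥T) [Decidable (y = z)] :
    ∑ l : IrrCharacter ↥T, (l : ↥T → ℂ) y * conj ((l : ↥T → ℂ) z) =
      if y = z then (Nat.card ↥T : ℂ) else 0 := by
  split_ifs with h
  · subst h
    rw [Chars.column_orthogonality_of_isConj (IsConj.refl y)]
    refine congrArg Nat.cast ?_
    rw [show centralizer ({y} : Set ↥T) = ⊤ from eq_top_iff.2 fun g _ =>
      mem_centralizer_singleton_iff.2 (IsMulCommutative.is_comm.comm g y), Subgroup.card_top]
  · refine Chars.column_orthogonality_of_not_isConj fun e => h ?_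
    obtain ⟨c, hc⟩ := isConj_iff.1 e
    rwa [IsMulCommutative.is_comm.comm c y, mul_inv_cancel_right] at hc

theorem sum_nontrivial_mul_conj (y z : ↥T) [Decidable (y = z)] [DecidableEq (IrrCharacter ↥T)] :
    ∑ l ∈ Finset.univ.erase (Chars.trivialIrr ↥T), (l : ↥T → ℂ) y * conj ((l : ↥T → ℂ) z) =
      (if y = z then (Nat.card ↥T : ℂ) else 0) - 1 := by
  rw [Finset.sum_erase_eq_sub (Finset.mem_univ _), sum_irr_mul_conj]
  simp [Chars.trivialIrr]

theorem sum_nontrivial (y : ↥T) [Decidable (y = 1)] [DecidableEq (IrrCharacter ↥T)] :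
    ∑ l ∈ Finset.univ.erase (Chars.trivialIrr ↥T), (l : ↥T → ℂ) y =
      (if y = 1 then (Nat.card ↥T : ℂ) else 0) - 1 := by
  have h := sum_nontrivial_mul_conj T y 1
  simpa [linear_one] using h

/-- A fixed point free element fixes only the trivial character. -/
theorem eq_trivial_of_act {g : ↥(normalizer (T : Set G))}
    (hfree : ∀ y : ↥T, conjT T g y = y → y = 1) {l : IrrCharacter ↥T} (h : act T g l = l) :
    l = Chars.trivialIrr ↥T := by
  have hinj : Function.Injective fun y : ↥T => conjT T g y * y⁻¹ := by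
    intro y z e
    have e' : conjT T g (y * z⁻¹) = y * z⁻¹ := by
      simp only at e
      rw [map_mul, map_inv, mul_inv_eq_iff_eq_mul.1 e, mul_assoc _ z⁻¹ y,
        IsMulCommutative.is_comm.comm (conjT T g z) (z⁻¹ * y), mul_inv_cancel_right,
        IsMulCommutative.is_comm.comm z⁻¹ y]
    exact mul_inv_eq_one.1 (hfree _ e')
  refine Subtype.ext (funext fun w => ?_)
  obtain ⟨y, rfl⟩ := (Finite.injective_iff_surjective.1 hinj) w
  show _ = (1 : ℂ)
  have h1 : (l : ↥T → ℂ) (conjT T g y) = (l : ↥T → ℂ) y := by rw [← act_apply, h]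
  rw [linear_mul, h1, ← linear_mul, mul_inv_cancel, linear_one]

/-- A character constant off the identity has constant multiplicities off the trivial character. -/
theorem mult_eq_of_const {χ : IrrCharacter G} {v : ℂ} (h : ∀ y : ↥T, y ≠ 1 → (χ : G → ℂ) y = v)
    {la lb : IrrCharacter ↥T} (ha : la ≠ Chars.trivialIrr ↥T) (hb : lb ≠ Chars.trivialIrr ↥T) :
    mult T χ la = mult T χ lb := by
  classical
  have key : ∀ l : IrrCharacter ↥T, l ≠ Chars.trivialIrr ↥T →
      (mult T χ l : ℂ) = (Nat.card ↥T : ℂ)⁻¹ * ((χ : G → ℂ) 1 - v) := by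
    intro l hl
    have h0 := Chars.classInner_irr_of_ne (Ne.symm hl)
    rw [classInner, mul_eq_zero, or_iff_right (inv_ne_zero Chars.natCard_ne_zero)] at h0
    rw [← mult_spec, classInner]
    congr 1
    have h1 : ∑ y : ↥T, ((χ : G → ℂ) y - v) * conj ((l : ↥T → ℂ) y) =
        ((χ : G → ℂ) 1 - v) := by
      rw [Finset.sum_eq_single (1 : ↥T) (fun y _ hy => by rw [h y hy, sub_self, zero_mul]) (by simp),
        linear_one, map_one, mul_one]
      rfl
    have h2 : ∑ y : ↥T, conj ((l : ↥T → ℂ) y) = 0 := by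
      rw [← h0]
      simp [Chars.trivialIrr]
    simp only [sub_mul, Finset.sum_sub_distrib, ← Finset.mul_sum, h2, mul_zero, sub_zero] at h1
    exact h1
  exact_mod_cast (key la ha).trans (key lb hb).symm

end Abelian

end Cfsg.Agent.Lib.Ree.ClassSquare
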