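import Cfsg.Agent.Lib.Ree.ClassSquare.Semisimple
import Cfsg.Agent.Lib.Ree.ClassSquare.StarSystem
import Cfsg.Agent.Lib.Ree.ClassSquare.TorusChars

/-!
The irreducible characters attached to a torus of order `q + r + 1` of a small Ree group.
-/

set_option autoImplicit false
set_option linter.unusedSectionVars false

namespace Cfsg.Agent.Lib.Ree.ClassSquare

open Cfsg Cfsg.Agent.Lib Subgroup
open Cfsg.Agent.Lib.Ree.Tori
open scoped ComplexConjugate

universe u

variable {G : Type u} [Group G] [Fintype G] {K : Type*} [Field K] [Fintype K]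

local notation "q" => Fintype.card K

variable {S : Sys G K} {T : Subgroup G} [Fintype ↥T]

theorem big_isMulCommutative (hT : S.IsBig T) : IsMulCommutative ↥T := by
  have := S.big_cyclic hT
  infer_instance

theorem supported_big (hT : S.IsBig T) (la lb : IrrCharacter ↥T) : Supported T la lb := by
  haveI := big_isMulCommutative hT
  refine ⟨by rw [linear_one, linear_one], fun y g hne hm => ?_⟩
  refine S.big_conj_mem hT y.2 (fun e => hne ?_) hm
  rw [show y = 1 from Subtype.ext e, linear_one, linear_one]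

theorem conjT_fixed (hT : S.IsBig T) {g : ↥(normalizer (T : Set G))} (hg : (g : G) ∉ T) {y : ↥T}
    (h : conjT T g y = y) : y = 1 := by
  by_contra hy
  have h' : (g : G)⁻¹ * y * g = y := congrArg Subtype.val h
  refine hg ((S.big_centralizer hT y.2 fun e => hy (Subtype.ext e)).le (mem_centralizer_singleton_iff.2 ?_))
  calc (g : G) * y = g * ((g : G)⁻¹ * y * g) := by rw [h']
    _ = y * g := by group

theorem act_of_mem (hT : S.IsBig T) {g : ↥(normalizer (T : Set G))} (hg : (g : G) ∈ T) (l : IrrCharacter ↥T) :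
    act T g l = l := by
  refine Subtype.ext (funext fun y => congrArg (l : ↥T → ℂ) (Subtype.ext ?_))
  show (g : G)⁻¹ * y * g = y
  rw [mul_assoc, (S.big_comm hT y.2 hg).eq, inv_mul_cancel_left]

theorem act_eq_self_iff (hT : S.IsBig T) {g : ↥(normalizer (T : Set G))} {l : IrrCharacter ↥T}
    (hl : l ≠ Chars.trivialIrr ↥T) : act T g l = l ↔ (g : G) ∈ T := by
  haveI := big_isMulCommutative hT
  refine ⟨fun h => ?_, fun h => act_of_mem hT h l⟩
  by_contra hg
  exact hl (eq_trivial_of_act T (fun y => conjT_fixed hT hg) h)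

theorem hits_orbit (hT : S.IsBig T) {l l' : IrrCharacter ↥T} (hl : l ≠ Chars.trivialIrr ↥T)
    (h : ∃ g, act T g l = l') : hits T l l' = Nat.card ↥T := by
  obtain ⟨g₀, hg₀⟩ := h
  refine Nat.card_congr
    { toFun := fun g => ⟨((g₀⁻¹ * g.1 : ↥(normalizer (T : Set G))) : G), (act_eq_self_iff hT hl).1 (by
        rw [act_mul, g.2, ← hg₀, ← act_mul, inv_mul_cancel, act_one])⟩
      invFun := fun t => ⟨g₀ * ⟨t, Subgroup.le_normalizer t.2⟩, by
        rw [act_mul, act_of_mem hT (g := ⟨(t : G), Subgroup.le_normalizer t.2⟩) t.2, hg₀]⟩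
      left_inv := fun g => Subtype.ext (Subtype.ext (by
        show (g₀ : G) * ((g₀ : G)⁻¹ * g.1) = g.1
        group))
      right_inv := fun t => Subtype.ext (by
        show (g₀ : G)⁻¹ * ((g₀ : G) * t) = t
        group) }

theorem hits_self (hT : S.IsBig T) {l : IrrCharacter ↥T} (hl : l ≠ Chars.trivialIrr ↥T) :
    hits T l l = Nat.card ↥T := hits_orbit hT hl ⟨1, act_one T l⟩

theorem act_ne_trivial (g : ↥(normalizer (T : Set G))) {l : IrrCharacter ↥T} (hl : l ≠ Chars.trivialIrr ↥T) :
    act T g l ≠ Chars.trivialIrr ↥T := fun h => hl (by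
  have := congrArg (act T g⁻¹) h
  rwa [← act_mul, inv_mul_cancel, act_one, act_trivial] at this)

/-- A nontrivial linear character of a big torus. -/
abbrev NT (T : Subgroup G) [Fintype ↥T] : Type u := {l : IrrCharacter ↥T // l ≠ Chars.trivialIrr ↥T}

/-- The orbits of the normaliser on the nontrivial linear characters. -/
def orbitSetoid (T : Subgroup G) [Fintype ↥T] : Setoid (NT T) where
  r l l' := ∃ g, act T g l.1 = l'.1
  iseqv :=
    { refl := fun l => ⟨1, act_one T l.1⟩
      symm := fun {l l'} ⟨g, hg⟩ => ⟨g⁻¹, by rw [← hg, ← act_mul, inv_mul_cancel, act_one]⟩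
      trans := fun {l l' l''} ⟨g, hg⟩ ⟨h, hh⟩ => ⟨h * g, by rw [act_mul, hg, hh]⟩ }

/-- The type of orbits. -/
abbrev Orb (T : Subgroup G) [Fintype ↥T] : Type u := Quotient (orbitSetoid T)

/-- The orbit of a character. -/
def orb (l : NT T) : Orb T := Quotient.mk (orbitSetoid T) l

theorem orb_eq_iff {l l' : NT T} : orb l = orb l' ↔ ∃ g, act T g l.1 = l'.1 :=
  ⟨fun h => Quotient.exact h, fun h => Quotient.sound h⟩

open scoped Classical in
/-- The sum over an orbit as a sum over the normaliser. -/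
theorem sum_normalizer_eq (hT : S.IsBig T) (l : NT T) (F : IrrCharacter ↥T → ℂ) :
    ∑ g : ↥(normalizer (T : Set G)), F (act T g l.1) =
      (Nat.card ↥T : ℂ) * ∑ l' : NT T with orb l' = orb l, F l'.1 := by
  rw [← Finset.sum_fiberwise (Finset.univ : Finset ↥(normalizer (T : Set G)))
    (fun g => (⟨act T g l.1, act_ne_trivial g l.2⟩ : NT T)), Finset.mul_sum, Finset.sum_filter]
  refine Finset.sum_congr rfl fun l' _ => ?_
  rw [Finset.sum_congr rfl (g := fun _ => F l'.1) fun g hg => by
    rw [← (Finset.mem_filter.1 hg).2], Finset.sum_const, nsmul_eq_mul]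
  have hcard : (Finset.univ.filter fun g : ↥(normalizer (T : Set G)) =>
      (⟨act T g l.1, act_ne_trivial g l.2⟩ : NT T) = l').card = hits T l.1 l'.1 := by
    rw [hits, Nat.card_eq_fintype_card, Fintype.card_subtype]
    simp only [Subtype.ext_iff]
  rw [hcard]
  split_ifs with h
  · obtain ⟨g, hg⟩ := orb_eq_iff.1 h
    rw [hits_orbit hT l.2 ⟨g⁻¹, by rw [← hg, ← act_mul, inv_mul_cancel, act_one]⟩]
  · rw [hits_eq_zero T fun g hg => h (orb_eq_iff.2 ⟨g⁻¹, by rw [← hg, ← act_mul, inv_mul_cancel, act_one]⟩),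
      Nat.cast_zero, zero_mul]

/-- What the torus gives about the irreducible characters. -/
structure TorusSet (S : Sys G K) (T : Subgroup G) (x : G) (s : Finset (IrrCharacter G)) (D : ℕ) : Prop where
  triv : Chars.trivialIrr G ∉ s
  steinberg : St S ∉ s
  card : 6 * s.card + 1 = Nat.card ↥T
  deg_eq : ∀ χ ∈ s, deg χ = D
  residue : ∃ ε b : ℤ, (ε = 1 ∨ ε = -1) ∧ (D : ℤ) = (Nat.card ↥T : ℤ) * b + 6 * ε
  sum_sq : ∑ χ ∈ s, val x χ ^ 2 = (Nat.card ↥T : ℝ) - 6
  others : ∑ χ : IrrCharacter G, val x χ ^ 2 = 6 + ∑ χ ∈ s, val x χ ^ 2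
  off_eq : ∀ z : G, (∀ g : G, g⁻¹ * z * g ∈ T → g⁻¹ * z * g = 1) →
    ∀ χ ∈ s, ∀ χ' ∈ s, (χ : G → ℂ) z = (χ' : G → ℂ) z

theorem exists_torusSet (hT : S.IsBig T) (hcard : Nat.card ↥T = q + S.rt + 1) {x : G} (hx : x ∈ T)
    (hx1 : x ≠ 1) : ∃ (s : Finset (IrrCharacter G)) (D : ℕ), TorusSet S T x s D := by
  classical
  haveI := big_isMulCommutative hT
  have hq := S.q_ge
  have hrlt := S.rt_lt
  have hr2 := S.rt_sq
  have hxC := S.big_centralizer hT hx hx1
  obtain ⟨t, -, -, ht⟩ := big_inverted S hT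
  have hreal : IsConj x x⁻¹ := isConj_iff.2 ⟨t, ht x hx⟩
  have hN := card_normalizer_big S hT
  set c := Nat.card ↥T with hc
  have hc0 : (c : ℂ) ≠ 0 := Nat.cast_ne_zero.2 Nat.card_pos.ne'
  set x' : ↥T := ⟨x, hx⟩
  have hx'1 : x' ≠ 1 := fun e => hx1 (congrArg Subtype.val e)
  have hL : ∀ f : IrrCharacter ↥T → ℂ, ∑ l : NT T, f l.1 =
      ∑ l ∈ Finset.univ.erase (Chars.trivialIrr ↥T), f l := fun f =>
    (Finset.sum_subtype (Finset.univ.erase (Chars.trivialIrr ↥T)) (fun l => by simp) f).symm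
  have hcardL : Fintype.card (NT T) = c - 1 := by
    rw [Fintype.card_subtype_compl, Fintype.card_subtype_eq, card_irr]
  -- the orbits
  let ι := Orb T
  have : Fintype ι := Fintype.ofFinite ι
  let rep : ι → NT T := Quotient.out
  have hrep : ∀ i, orb (rep i) = i := Quotient.out_eq
  have hfib : ∀ i : ι, (Finset.univ.filter fun l : NT T => orb l = i).card = 6 := by
    intro i
    have h := sum_normalizer_eq hT (rep i) (fun _ => (1 : ℂ))
    rw [hrep i, Finset.sum_const, Finset.sum_const, Finset.card_univ, nsmul_one, nsmul_one,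
      ← Nat.card_eq_fintype_card, hN] at h
    have h' : 6 * c = c * (Finset.univ.filter fun l : NT T => orb l = i).card := by exact_mod_cast h
    rw [mul_comm 6 c] at h'
    exact (Nat.eq_of_mul_eq_mul_left Nat.card_pos h').symm
  have hι : 6 * Fintype.card ι + 1 = c := by
    have h : (Finset.univ : Finset (NT T)).card =
        ∑ i : ι, (Finset.univ.filter fun l : NT T => orb l = i).card :=
      Finset.card_eq_sum_card_fiberwise fun l _ => Finset.mem_univ _
    rw [Finset.sum_congr rfl fun i _ => hfib i, Finset.sum_const, smul_eq_mul, Finset.card_univ, Finset.card_univ,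
      hcardL] at h
    omega
  have h37 : 37 ≤ c := by
    have : 9 ≤ S.rt := by
      by_contra h
      have : S.rt * S.rt ≤ 8 * 8 := Nat.mul_le_mul (by omega) (by omega)
      omega
    omega
  have hι6 : 6 ≤ Fintype.card ι := by omega
  -- the star
  obtain ⟨cc, ε, base, hinj, hε, hv⟩ := exists_star (X := IrrCharacter G) (by omega) deg
    (fun χ => (deg_spec χ).2.1) (fun i χ => (mult T χ (rep i).1 : ℤ))
    (fun i j => by
      have h := sum_deg_sub T (supported_big hT (rep i).1 (rep j).1)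
      simp only [(deg_spec _).1] at h
      exact_mod_cast h)
    (fun i j hij => by
      have h := sum_sq_sub T (supported_big hT (rep i).1 (rep j).1)
      have h1 : ∀ a b : ι, a ≠ b → hits T (rep a).1 (rep b).1 = 0 := fun a b hab => hits_eq_zero T fun g hg =>
        hab (by rw [← hrep a, ← hrep b]; exact orb_eq_iff.2 ⟨g, hg⟩)
      rw [hits_self hT (rep i).2, hits_self hT (rep j).2, h1 i j hij, h1 j i hij.symm] at h
      push_cast at h
      refine mul_left_cancel₀ (show (c : ℤ) ≠ 0 by exact_mod_cast Nat.card_pos.ne') ?_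
      linear_combination h)
  have hεne : (ε : ℂ) ≠ 0 := by rcases hε with e | e <;> simp [e]
  have hεsq : ε * ε = 1 := by rcases hε with e | e <;> simp [e]
  have hn : ∀ (χ : IrrCharacter G) (l : NT T),
      (mult T χ l.1 : ℤ) = base χ + if χ = cc (orb l) then ε else 0 := by
    intro χ l
    rw [← hv (orb l) χ]
    obtain ⟨g, hg⟩ := orb_eq_iff.1 (hrep (orb l))
    rw [← hg, mult_act]
  -- values on the torus
  set e : IrrCharacter G → ℤ := fun χ => (mult T χ (Chars.trivialIrr ↥T) : ℤ) - base χ with he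
  have hvalT : ∀ (χ : IrrCharacter G) (y : ↥T), (χ : G → ℂ) y = (mult T χ (Chars.trivialIrr ↥T) : ℂ) +
      (base χ : ℂ) * ((if y = 1 then (c : ℂ) else 0) - 1) +
      (ε : ℂ) * ∑ l : NT T, if χ = cc (orb l) then (l.1 : ↥T → ℂ) y else 0 := by
    intro χ y
    rw [apply_eq_sum_mult T χ y, ← Finset.add_sum_erase _ _ (Finset.mem_univ (Chars.trivialIrr ↥T)),
      ← hL fun l => (mult T χ l : ℂ) * (l : ↥T → ℂ) y, ← sum_nontrivial T y, ← hL fun l => (l : ↥T → ℂ) y,
      add_assoc, Finset.mul_sum, Finset.mul_sum, ← Finset.sum_add_distrib]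
    congr 1
    · simp [Chars.trivialIrr]
    · refine Finset.sum_congr rfl fun l _ => ?_
      have h := congrArg (fun k : ℤ => (k : ℂ)) (hn χ l)
      push_cast at h
      rw [h]
      split_ifs <;> ring
  -- the trivial and the Steinberg characters are off the star
  have hoff : ∀ χ : IrrCharacter G, (∃ v : ℂ, ∀ y : ↥T, y ≠ 1 → (χ : G → ℂ) y = v) → ∀ i, cc i ≠ χ := by
    rintro χ ⟨v, hv'⟩ i rfl
    obtain ⟨j, hj⟩ := Fintype.exists_ne_of_one_lt_card (show 1 < Fintype.card ι by omega) i
    have h := mult_eq_of_const T hv' (rep i).2 (rep j).2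
    have h' : (mult T (cc i) (rep i).1 : ℤ) = mult T (cc i) (rep j).1 := by rw [h]
    rw [hn, hn, hrep, hrep, if_pos rfl, if_neg fun e' => hj (hinj e').symm] at h'
    rcases hε with e' | e' <;> omega
  set s := Finset.univ.image cc with hs
  have hs1 : Chars.trivialIrr G ∉ s := fun h => by
    obtain ⟨i, -, hi⟩ := Finset.mem_image.1 h
    exact hoff _ ⟨1, fun y _ => rfl⟩ i hi
  have hsS : St S ∉ s := fun h => by
    obtain ⟨i, -, hi⟩ := Finset.mem_image.1 h
    exact hoff _ ⟨-1, fun y hy => St_big S hT y.2 fun e' => hy (Subtype.ext e')⟩ i hi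
  -- induced differences are differences of two characters
  have hdiff : ∀ i j : ι, ∀ F : IrrCharacter G → ℂ,
      ∑ χ, ((mult T χ (rep i).1 : ℂ) - mult T χ (rep j).1) * F χ = (ε : ℂ) * (F (cc i) - F (cc j)) := by
    intro i j F
    have h : ∀ χ, (mult T χ (rep i).1 : ℂ) - mult T χ (rep j).1 =
        (if χ = cc i then (ε : ℂ) else 0) - (if χ = cc j then (ε : ℂ) else 0) := fun χ => by
      have h1 := congrArg (fun k : ℤ => (k : ℂ)) (hv i χ)
      have h2 := congrArg (fun k : ℤ => (k : ℂ)) (hv j χ)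
      push_cast at h1 h2
      rw [h1, h2]
      ring
    simp only [h, sub_mul, Finset.sum_sub_distrib, ite_mul, zero_mul, Finset.sum_ite_eq', Finset.mem_univ, if_true]
    ring
  have hsame : ∀ z : G, (∀ g : G, g⁻¹ * z * g ∈ T → g⁻¹ * z * g = 1) →
      ∀ i j : ι, (cc i : G → ℂ) z = (cc j : G → ℂ) z := by
    intro z hz i j
    have h := sum_sub_eq_zero T (la := (rep i).1) (lb := (rep j).1) (z := z) fun g hg => by
      rw [show (⟨g⁻¹ * z * g, hg⟩ : ↥T) = 1 from Subtype.ext (hz g hg), linear_one, linear_one]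
    rw [hdiff i j fun χ => (χ : G → ℂ) z, mul_eq_zero, or_iff_right hεne, sub_eq_zero] at h
    exact h
  have hn1 : ∀ i j : ι, mult T (cc i) (Chars.trivialIrr ↥T) = mult T (cc j) (Chars.trivialIrr ↥T) := by
    intro i j
    have h := sum_mult_mul_sub T (supported_big hT (rep i).1 (rep j).1) (Chars.trivialIrr ↥T)
    rw [hits_eq_zero T fun g => act_ne_trivial g (rep i).2, hits_eq_zero T fun g => act_ne_trivial g (rep j).2,
      Nat.cast_zero, sub_zero, mul_eq_zero, or_iff_right (by exact_mod_cast Nat.card_pos.ne')] at h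
    have h' := congrArg (fun k : ℤ => (k : ℂ)) h
    simp only [Int.cast_sum, Int.cast_mul, Int.cast_sub, Int.cast_natCast, Int.cast_zero] at h'
    rw [Finset.sum_congr rfl (g := fun χ => ((mult T χ (rep i).1 : ℂ) - mult T χ (rep j).1) *
        (mult T χ (Chars.trivialIrr ↥T) : ℂ)) (fun χ _ => mul_comm _ _),
      hdiff i j fun χ => (mult T χ (Chars.trivialIrr ↥T) : ℂ), mul_eq_zero, or_iff_right hεne, sub_eq_zero] at h'
    exact_mod_cast h'
  have hcnt : ∀ i : ι, (Finset.univ.filter fun l : NT T => cc i = cc (orb l)).card = 6 := fun i => by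
    rw [← hfib i]
    congr 1
    refine Finset.filter_congr fun l _ => ?_
    exact ⟨fun h => (hinj h).symm, fun h => by rw [h]⟩
  have hdeg : ∀ i : ι, (deg (cc i) : ℤ) = e (cc i) + c * base (cc i) + 6 * ε := by
    intro i
    have h := hvalT (cc i) 1
    rw [if_pos rfl, Finset.sum_congr rfl (g := fun l => if cc i = cc (orb l) then (1 : ℂ) else 0)
      (fun l _ => by rw [linear_one]), Finset.sum_boole, hcnt, OneMemClass.coe_one, (deg_spec _).1] at h
    have h' : (deg (cc i) : ℤ) = (mult T (cc i) (Chars.trivialIrr ↥T) : ℤ) + base (cc i) * ((c : ℤ) - 1) + ε * 6 := by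
      exact_mod_cast h
    rw [he]
    linear_combination h'
  have hDeq : ∀ i j : ι, deg (cc i) = deg (cc j) := fun i j => by
    have h := hsame 1 (fun g _ => by group) i j
    rw [(deg_spec _).1, (deg_spec _).1] at h
    exact_mod_cast h
  obtain ⟨i₀⟩ : Nonempty ι := Fintype.card_pos_iff.1 (by omega)
  have hbase : ∀ i, base (cc i) = base (cc i₀) := fun i => by
    have h1 := hdeg i
    have h2 := hdeg i₀
    rw [hDeq i i₀, h2] at h1
    simp only [he, hn1 i i₀] at h1
    refine mul_left_cancel₀ (show (c : ℤ) - 1 ≠ 0 by omega) ?_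
    linear_combination -h1
  set e₀ := e (cc i₀)
  have hee : ∀ i, e (cc i) = e₀ := fun i => by simp only [e₀, he, hn1 i i₀, hbase i]
  -- the values at `x`
  set J : ι → ℂ := fun i => ∑ l : NT T with orb l = i, (l.1 : ↥T → ℂ) x'
  have hval : ∀ i, (cc i : G → ℂ) x = (e₀ : ℂ) + (ε : ℂ) * J i := by
    intro i
    rw [show x = (x' : G) from rfl, hvalT (cc i) x', if_neg hx'1, ← Finset.sum_filter, ← hee i, he]
    simp only [J]
    rw [Finset.filter_congr fun l _ => (⟨fun h => (hinj h).symm, fun h => by rw [h]⟩ : cc i = cc (orb l) ↔ orb l = i)]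
    push_cast
    ring
  have hsumJ : ∑ i, J i = -1 := by
    rw [show ∑ i, J i = ∑ l : NT T, (l.1 : ↥T → ℂ) x' from
      Finset.sum_fiberwise (Finset.univ : Finset (NT T)) orb fun l => (l.1 : ↥T → ℂ) x',
      hL fun l => (l : ↥T → ℂ) x', sum_nontrivial, if_neg hx'1, zero_sub]
  have hsumJJ : ∑ i, J i * conj (J i) = (c : ℂ) - 6 := by
    have h1 : ∑ i, J i * conj (J i) = ∑ l : NT T, (l.1 : ↥T → ℂ) x' * conj (J (orb l)) := by
      rw [← Finset.sum_fiberwise (Finset.univ : Finset (NT T)) orb fun l => (l.1 : ↥T → ℂ) x' * conj (J (orb l))]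
      refine Finset.sum_congr rfl fun i _ => ?_
      simp only [J, Finset.sum_mul]
      exact Finset.sum_congr rfl fun l hl => by rw [(Finset.mem_filter.1 hl).2]
    rw [h1]
    refine mul_left_cancel₀ hc0 ?_
    rw [Finset.mul_sum, Finset.sum_congr rfl (g := fun l : NT T => ∑ g : ↥(normalizer (T : Set G)),
      (l.1 : ↥T → ℂ) x' * conj ((l.1 : ↥T → ℂ) (conjT T g x'))) fun l _ => by
        rw [← Finset.mul_sum, ← map_sum,
          show ∑ g, (l.1 : ↥T → ℂ) (conjT T g x') = ∑ g, (act T g l.1 : ↥T → ℂ) x' from rfl,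
          sum_normalizer_eq hT l fun l' => (l' : ↥T → ℂ) x', map_mul, Complex.conj_natCast]
        ring,
      Finset.sum_comm]
    rw [Finset.sum_congr rfl fun g _ =>
      (hL fun l => (l : ↥T → ℂ) x' * conj ((l : ↥T → ℂ) (conjT T g x'))).trans
        (sum_nontrivial_mul_conj T x' (conjT T g x'))]
    simp only [Finset.sum_sub_distrib, Finset.sum_ite, Finset.sum_const_zero, add_zero, Finset.sum_const, Finset.card_univ,
      nsmul_eq_mul, mul_one]
    have hcnt' : (Finset.univ.filter fun g : ↥(normalizer (T : Set G)) => x' = conjT T g x').card = c := by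
      rw [← Fintype.card_subtype, ← Nat.card_eq_fintype_card, hc]
      refine Nat.card_congr ((Equiv.subtypeEquivRight fun g => ?_).trans
        (Subgroup.subgroupOfEquivOfLe (H := T) (K := normalizer (T : Set G)) Subgroup.le_normalizer).toEquiv)
      show _ ↔ g ∈ T.subgroupOf _
      rw [Subgroup.mem_subgroupOf]
      refine ⟨fun h => ?_, fun h => Subtype.ext ?_⟩
      · by_contra hg
        exact hx'1 (conjT_fixed hT hg h.symm)
      · show x = (g : G)⁻¹ * x * g
        rw [mul_assoc, (S.big_comm hT hx h).eq, inv_mul_cancel_left]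
    rw [hcnt', ← Nat.card_eq_fintype_card, hN]
    push_cast
    ring
  -- real values
  have hJreal : ∀ i, conj (J i) = J i := fun i => by
    have h := conj_apply_real hreal (cc i)
    rw [hval i, map_add, map_mul, map_intCast, map_intCast] at h
    exact mul_left_cancel₀ hεne (add_left_cancel h)
  have hA2 : ∀ χ, ((val x χ ^ 2 : ℝ) : ℂ) = (χ : G → ℂ) x ^ 2 := fun χ => by
    rw [val_spec hreal χ]; push_cast; ring
  have hεC : (ε : ℂ) * ε = 1 := by exact_mod_cast hεsq
  have hS2 : ∑ χ ∈ s, (χ : G → ℂ) x ^ 2 =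
      (Fintype.card ι : ℂ) * (e₀ : ℂ) ^ 2 - 2 * ε * e₀ + ((c : ℂ) - 6) := by
    rw [Finset.sum_image hinj.injOn, Finset.sum_congr rfl (g := fun i =>
      (e₀ : ℂ) ^ 2 + 2 * ε * e₀ * J i + J i * conj (J i)) fun i _ => by
        rw [hval i, hJreal i]; linear_combination J i * J i * hεC]
    rw [Finset.sum_add_distrib, Finset.sum_add_distrib, ← Finset.mul_sum, hsumJ, hsumJJ, Finset.sum_const,
      Finset.card_univ, nsmul_eq_mul]
    ring
  have hS2' : ∑ χ ∈ s, val x χ ^ 2 = (Fintype.card ι : ℝ) * (e₀ : ℝ) ^ 2 - 2 * ε * e₀ + ((c : ℝ) - 6) := by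
    refine Complex.ofReal_injective ?_
    rw [Complex.ofReal_sum]
    simp only [hA2, hS2]
    push_cast
    ring
  have hv1 : val x (Chars.trivialIrr G) = 1 := by simp [val, Chars.trivialIrr]
  have hvS : val x (St S) = -1 := by simp [val, St_big S hT hx hx1]
  set others := (((Finset.univ : Finset (IrrCharacter G)) \ s).erase (Chars.trivialIrr G)).erase (St S) with hothers
  have hsplit : ∀ F : IrrCharacter G → ℝ, ∑ χ, F χ =
      ∑ χ ∈ s, F χ + (F (Chars.trivialIrr G) + (F (St S) + ∑ χ ∈ others, F χ)) := by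
    intro F
    rw [hothers, Finset.add_sum_erase _ _ (Finset.mem_erase.2 ⟨St_ne_trivial S, by simp [hsS]⟩),
      Finset.add_sum_erase _ _ (by simp [hs1]), add_comm, Finset.sum_sdiff (Finset.subset_univ s)]
  have hbudget : ∑ χ ∈ others, val x χ ^ 2 = 4 + 2 * ε * e₀ - (Fintype.card ι : ℝ) * (e₀ : ℝ) ^ 2 := by
    have h := sum_val_sq hreal
    rw [hsplit, hS2', hv1, hvS, hxC, ← hc] at h
    linear_combination h
  have he0 : e₀ = 0 := by
    by_contra hne
    have h0 : 0 ≤ 4 + 2 * ε * e₀ - (Fintype.card ι : ℤ) * e₀ ^ 2 := by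
      have h : (0 : ℝ) ≤ 4 + 2 * ε * e₀ - (Fintype.card ι : ℝ) * (e₀ : ℝ) ^ 2 :=
        hbudget ▸ Finset.sum_nonneg fun _ _ => sq_nonneg _
      exact_mod_cast h
    have hk : (6 : ℤ) ≤ (Fintype.card ι : ℤ) := by exact_mod_cast hι6
    have hpm : e₀ = 1 ∨ e₀ = -1 := by
      have h1 : 6 * e₀ ^ 2 ≤ 4 + 2 * ε * e₀ := by nlinarith [sq_nonneg e₀]
      rcases lt_trichotomy e₀ 0 with h | h | h
      · refine Or.inr ?_
        by_contra h2
        have h3 : e₀ ≤ -2 := by omega
        rcases hε with e' | e' <;> subst e' <;> nlinarith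
      · exact absurd h hne
      · refine Or.inl ?_
        by_contra h2
        have h3 : 2 ≤ e₀ := by omega
        rcases hε with e' | e' <;> subst e' <;> nlinarith
    have heε : e₀ = ε := by rcases hε with e' | e' <;> rcases hpm with p | p <;> rw [e', p] at h0 ⊢ <;> omega
    have hk6 : Fintype.card ι = 6 := by
      rw [heε, mul_assoc, hεsq, pow_two, hεsq] at h0
      omega
    have hq27 : q = 27 := by
      have hm : S.m ≤ 1 := by
        by_contra hm
        have : 3 ^ 5 ≤ q := S.card_K ▸ Nat.pow_le_pow_right (by norm_num) (by omega)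
        omega
      rw [S.card_K, show S.m = 1 by have := S.one_le_m; omega]
      rfl
    have hzero : ∀ χ ∈ others, val x χ = 0 := by
      have h : ∑ χ ∈ others, val x χ ^ 2 = 0 := by
        rw [hbudget, heε, hk6]
        have : (ε : ℝ) * ε = 1 := by exact_mod_cast hεsq
        push_cast
        linear_combination (2 - 6 : ℝ) * this
      exact fun χ hχ => pow_eq_zero_iff (two_ne_zero) |>.1
        ((Finset.sum_eq_zero_iff_of_nonneg fun _ _ => sq_nonneg _).1 h χ hχ)
    have horth : ∑ χ : IrrCharacter G, val x χ * deg χ = 0 := by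
      have h := sum_val_mul hreal (z := 1) fun h => hx1 (isConj_one_right.1 h)
      refine Complex.ofReal_injective ?_
      push_cast
      simpa only [(deg_spec _).1] using h
    have hs1' : ∑ χ ∈ s, val x χ * deg χ = (5 * ε : ℝ) * deg (cc i₀) := by
      refine Complex.ofReal_injective ?_
      push_cast
      simp only [← val_spec hreal]
      rw [Finset.sum_image hinj.injOn, Finset.sum_congr rfl (g := fun i => ((e₀ : ℂ) + ε * J i) * deg (cc i₀))
        fun i _ => by rw [hval i, hDeq i i₀], ← Finset.sum_mul, Finset.sum_add_distrib, ← Finset.mul_sum, hsumJ,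
        Finset.sum_const, Finset.card_univ, hk6, heε]
      push_cast
      ring
    rw [hsplit, hs1', hv1, hvS, Finset.sum_eq_zero (fun χ hχ => by rw [hzero χ hχ, zero_mul]),
      deg_St S, hq27, show deg (Chars.trivialIrr G) = 1 by simp [deg, charDegree, Chars.trivialIrr]] at horth
    have h5 : 5 * ε * (deg (cc i₀) : ℤ) = 19682 := by
      have : ((5 * ε * (deg (cc i₀) : ℤ) : ℤ) : ℝ) = ((19682 : ℤ) : ℝ) := by
        push_cast at horth ⊢
        linear_combination horth
      exact_mod_cast this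
    rcases hε with e' | e' <;> rw [e'] at h5 <;> omega
  refine ⟨s, deg (cc i₀), hs1, hsS, ?_, ?_, ?_, ?_, ?_, ?_⟩
  · rw [Finset.card_image_of_injective _ hinj, Finset.card_univ]; exact hι
  · intro χ hχ
    obtain ⟨i, -, rfl⟩ := Finset.mem_image.1 hχ
    exact hDeq i i₀
  · exact ⟨ε, base (cc i₀), hε, by rw [hdeg i₀, show e (cc i₀) = 0 from he0, zero_add]⟩
  · rw [hS2', he0]; push_cast; ring
  · have h := sum_val_sq hreal
    rw [h, hS2', he0, hxC, ← hc]
    push_cast
    ring
  · intro z hz χ hχ χ' hχ'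
    obtain ⟨i, -, rfl⟩ := Finset.mem_image.1 hχ
    obtain ⟨j, -, rfl⟩ := Finset.mem_image.1 hχ'
    exact hsame z hz i j

end Cfsg.Agent.Lib.Ree.ClassSquare
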